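import Mathlib
import Cfsg.Prelude.Def_ChevStructure
import Cfsg.Prelude.Def_LieTwisted
import Cfsg.Agent.Lib.Helper5.Ree.Block

set_option autoImplicit false

/-!
In characteristic 2 the Chevalley algebra of type `F₄` has the ideal `I` spanned by the short root
vectors and the coroots of the short fundamental roots; the action of `x_r(t)` on the quotient by
`I` is, in the basis relabelled by the bijection `β` between long and short roots, the action of
`x_{π r}(t^{λ r})` on `I`.
-/

namespace Cfsg.Agent.Lib.Helper5.F4T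

open Cfsg Cfsg.Lie Cfsg.Agent.Lib.Helper5.ChevSym Cfsg.Agent.Lib.Helper5.ChevSymP
  Cfsg.Agent.Lib.Helper5.ChevStruct Cfsg.Agent.Lib.Helper5.Ree

/-! ### The data for `F₄` -/

/-- codes of `h_3`, `h_4` and of the long root vectors -/
def qCodes : List ℕ := [2, 3, 4, 5, 6, 8, 9, 10, 19, 20, 21, 25, 26, 27, 28, 29, 30, 34, 35, 36,
  45, 46, 47, 49, 50, 51]

/-- codes of `h_1`, `h_2` and of the short root vectors -/
def iCodes : List ℕ := [0, 1, 7, 11, 12, 13, 14, 15, 16, 17, 18, 22, 23, 24, 31, 32, 33, 37, 38,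
  39, 40, 41, 42, 43, 44, 48]

/-- the bijection between the two, on codes -/
def betaN (n : ℕ) : ℕ := [3, 2, 1, 0, 7, 11, 12, 4, 13, 15, 22, 5, 6, 8, 19, 9, 20, 25, 27, 14, 16,
  23, 10, 21, 26, 17, 24, 18, 37, 31, 38, 29, 34, 45, 32, 39, 41, 28, 30, 35, 46, 36, 47, 49, 50,
  33, 40, 42, 51, 43, 44, 48].getD n n

/-- the bijection of the roots -/
def piR (r : ℕ) : ℕ := [3, 7, 8, 0, 9, 11, 18, 1, 2, 4, 15, 5, 16, 21, 23, 10, 12, 19, 6, 17, 22,
  13, 20, 14, 33, 27, 34, 25, 30, 41, 28, 35, 37, 24, 26, 31, 42, 32, 43, 45, 46, 29, 36, 38, 47,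
  39, 40, 44].getD r r

/-- `2` on the short roots, `1` on the long roots -/
def lam (r : ℕ) : ℕ := [1, 1, 1, 2, 1, 1, 1, 2, 2, 2, 2, 2, 2, 2, 2, 1, 1, 1, 2, 2, 2, 1, 1, 1, 1,
  1, 1, 2, 2, 2, 1, 1, 1, 2, 2, 2, 2, 2, 2, 2, 2, 1, 1, 1, 2, 1, 1, 1].getD r 1

theorem betaN_facts : ∀ n < 52, betaN n < 52 ∧ betaN (betaN n) = n ∧
    (memNat (betaN n) qCodes = true ↔ ¬ memNat n qCodes = true) ∧
    (memNat n qCodes = false → memNat n iCodes = true) := by decide

theorem piR_facts : ∀ r < 48, piR r < 48 ∧ piR (piR r) = r ∧ lam r * lam (piR r) = 2 ∧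
    betaN (4 + r) = 4 + piR r := by decide

theorem rank_add_nroots : chevF4.rank + chevF4.nroots = 52 := rfl

/-- membership in the quotient part -/
def isQ (i : chevF4.Idx) : Prop := memNat (code chevF4 i) qCodes = true

instance : DecidablePred isQ := fun i => by unfold isQ; infer_instance

theorem code_lt52 (i : chevF4.Idx) : code chevF4 i < 52 := code_lt chevF4 i

theorem betaN_lt (i : chevF4.Idx) : betaN (code chevF4 i) < chevF4.rank + chevF4.nroots :=
  (betaN_facts _ (code_lt52 i)).1

/-- the bijection `β` of the coordinates, as a function -/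
def betaF (i : chevF4.Idx) : chevF4.Idx := decode chevF4 (betaN (code chevF4 i)) (betaN_lt i)

theorem code_betaF (i : chevF4.Idx) : code chevF4 (betaF i) = betaN (code chevF4 i) := by
  unfold betaF
  rw [code_decode]

theorem betaF_betaF (i : chevF4.Idx) : betaF (betaF i) = i := by
  apply code_injective
  rw [code_betaF, code_betaF, (betaN_facts _ (code_lt52 i)).2.1]

/-- the bijection `β` of the coordinates -/
def betaI : Equiv.Perm chevF4.Idx where
  toFun := betaF
  invFun := betaF
  left_inv := betaF_betaF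
  right_inv := betaF_betaF

theorem code_betaI (i : chevF4.Idx) : code chevF4 (betaI i) = betaN (code chevF4 i) :=
  code_betaF i

theorem isQ_betaI (i : chevF4.Idx) : isQ (betaI i) ↔ ¬ isQ i := by
  unfold isQ
  rw [code_betaI]
  exact (betaN_facts _ (code_lt52 i)).2.2.1

/-! ### The check on the generators -/

def chkInvAt (r : ℕ) : Bool :=
  iCodes.all fun j => qCodes.all fun i => isNilP (entry0 (wordColP chevF4 2 (sw r 1) j) i)

def chkRelAt (r : ℕ) : Bool :=
  qCodes.all fun j => qCodes.all fun i =>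
    vecEqP 2 (entry0 (wordColP chevF4 2 (sw r 1) j) i)
      (entry0 (wordColP chevF4 2 (sw (piR r) (lam r)) (betaN j)) (betaN i))

set_option maxRecDepth 1000000 in
theorem chk_all : ∀ r < 48, chkInvAt r = true ∧ chkRelAt r = true := by decide +kernel

section sound

variable {K : Type*} [Field K]

theorem x_entry (hp : ((2 : ℕ) : K) = 0) (r e : ℕ) (t : K) (row col : chevF4.Idx) :
    chevF4.x K r (t ^ e) row col
      = evalVecP [t] (entry0 (wordColP chevF4 2 (sw r e) (code chevF4 col)) (code chevF4 row)) 0 := by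
  rw [evalVecP_entry0, wordColP_sound chevF4 2 [t] hp, evalWP_sw]
  simp [ChevalleyDatum.wordMat]

theorem not_isQ_mem (j : chevF4.Idx) (hj : ¬ isQ j) : code chevF4 j ∈ iCodes := by
  rw [← memNat_iff]
  apply (betaN_facts _ (code_lt52 j)).2.2.2
  unfold isQ at hj
  rw [Bool.not_eq_true] at hj
  exact hj

theorem isQ_mem (j : chevF4.Idx) (hj : isQ j) : code chevF4 j ∈ qCodes := (memNat_iff _ _).1 hj

/-- the root elements leave `I` invariant -/
theorem x_bInv (hp : ((2 : ℕ) : K) = 0) (r : ℕ) (t : K) : BInv isQ (chevF4.x K r t) := by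
  by_cases hr : r < 48
  · intro i j hi hj
    have h := (chk_all r hr).1
    unfold chkInvAt at h
    rw [List.all_eq_true] at h
    have h1 := h _ (not_isQ_mem j hj)
    rw [List.all_eq_true] at h1
    have h2 := isNilP_eq (h1 _ (isQ_mem i hi))
    have := x_entry hp r 1 t i j
    rw [pow_one, h2] at this
    rw [this]
    rfl
  · have : chevF4.x K r t = 1 := by
      unfold ChevalleyDatum.x
      have hr' : ¬ r < chevF4.nroots := hr
      rw [dif_neg hr']
    rw [this]
    exact bInv_one _

/-- the action of `x_r(t)` on the quotient is that of `x_{π r}(t^{λ r})` on `I` -/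
theorem x_bRel (hp : ((2 : ℕ) : K) = 0) (r : ℕ) (hr : r < 48) (t : K) :
    BRel isQ betaI (chevF4.x K r t) (chevF4.x K (piR r) (t ^ lam r)) := by
  intro i j hi hj
  have h := (chk_all r hr).2
  unfold chkRelAt at h
  rw [List.all_eq_true] at h
  have h1 := h _ (isQ_mem j hj)
  rw [List.all_eq_true] at h1
  have h2 := h1 _ (isQ_mem i hi)
  have e1 := x_entry hp r 1 t i j
  rw [pow_one] at e1
  rw [e1, x_entry hp (piR r) (lam r) t (betaI i) (betaI j), code_betaI, code_betaI]
  exact eq_of_vecEqP 2 [t] hp _ _ h2 0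

end sound

end Cfsg.Agent.Lib.Helper5.F4T
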