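import Mathlib
import Cfsg.Prelude.Def_ChevStructure
import Cfsg.Prelude.Def_LieTwisted
import Cfsg.Agent.Lib.Helper5.ChevSymPCore
import Cfsg.Agent.Lib.Helper5.Ree.Ident

set_option autoImplicit false

/-!
Identities between words in root elements of `F₄` in characteristic 2, checked symbolically.
-/

namespace Cfsg.Agent.Lib.Helper5.F4T

open Cfsg Cfsg.Lie Cfsg.Agent.Lib.Helper5.ChevSym Cfsg.Agent.Lib.Helper5.ChevSymP
  Cfsg.Agent.Lib.Helper5.Ree

/-- all the columns -/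
def allCols : List ℕ := List.range 52

theorem supp_le : ∀ r < 48, ∀ c ∈ supp chevF4 r, c ∈ allCols := by decide

/-- equality of the matrices of two symbolic words from the check -/
theorem wordMat_eq_of_check {K : Type*} [Field K] (hp : ((2 : ℕ) : K) = 0) (vals : List K)
    (w1 w2 : List (ℕ × PolyP)) (hr : ∀ rp ∈ w1 ++ w2, rp.1 < 48)
    (h : ∀ col ∈ allCols, vecEqP 2 (wordColP chevF4 2 w1 col) (wordColP chevF4 2 w2 col) = true) :
    chevF4.wordMat K (evalWP vals w1) = chevF4.wordMat K (evalWP vals w2) :=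
  wordMat_eq_of_colsP chevF4 2 vals hp w1 w2 allCols (fun rp hrp => supp_le rp.1 (hr rp hrp)) h

/-! ### The classes of type `B₂` -/

/-- the roots `a, b, a + b, 2a + b` of a class of type `B₂` -/
structure Quad where
  a : ℕ
  b : ℕ
  ab : ℕ
  aab : ℕ
deriving DecidableEq

/-- the eight classes of type `B₂`: four positive ones, four negative ones -/
def quads : List Quad :=
  [⟨27, 25, 28, 30⟩, ⟨34, 26, 36, 42⟩, ⟨29, 41, 44, 47⟩, ⟨35, 31, 40, 46⟩,
   ⟨20, 22, 19, 17⟩, ⟨13, 21, 11, 5⟩, ⟨18, 6, 3, 0⟩, ⟨12, 16, 7, 1⟩]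

-- variables: s = 0, t = 1, v = 2, w = 3
def rw1 (q : Quad) : List (ℕ × PolyP) :=
  [(q.b, [([1,0,0,0], 1)]), (q.a, [([0,1,0,0], 1)]), (q.aab, [([0,0,1,0], 1)]),
   (q.ab, [([0,0,0,1], 1)])]

def rw2 (q : Quad) : List (ℕ × PolyP) :=
  [(q.a, [([0,1,0,0], 1)]), (q.b, [([1,0,0,0], 1)]),
   (q.ab, [([1,1,0,0], 1), ([0,0,0,1], 1)]), (q.aab, [([1,2,0,0], 1), ([0,0,1,0], 1)])]

set_option maxRecDepth 1000000 in
theorem chk_reorder : ∀ q ∈ quads, ∀ col ∈ allCols,
    vecEqP 2 (wordColP chevF4 2 (rw1 q) col) (wordColP chevF4 2 (rw2 q) col) = true := by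
  decide +kernel

theorem quads_lt : ∀ q ∈ quads, q.a < 48 ∧ q.b < 48 ∧ q.ab < 48 ∧ q.aab < 48 := by decide

section

variable {K : Type*} [Field K]

/-- reordering the product of the root elements of a class of type `B₂` -/
theorem reorder (hp : ((2 : ℕ) : K) = 0) (q : Quad) (hq : q ∈ quads) (s t v w : K) :
    chevF4.wordMat K [(q.b, s), (q.a, t), (q.aab, v), (q.ab, w)]
      = chevF4.wordMat K [(q.a, t), (q.b, s), (q.ab, s * t + w), (q.aab, s * t ^ 2 + v)] := by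
  obtain ⟨h1, h2, h3, h4⟩ := quads_lt q hq
  have h := wordMat_eq_of_check hp [s, t, v, w] (rw1 q) (rw2 q) (by
    intro rp hrp
    simp only [rw1, rw2, List.cons_append, List.nil_append, List.mem_cons, List.not_mem_nil,
      or_false] at hrp
    rcases hrp with rfl | rfl | rfl | rfl | rfl | rfl | rfl | rfl <;> assumption)
    (chk_reorder q hq)
  have e1 : evalWP [s, t, v, w] (rw1 q) = [(q.b, s), (q.a, t), (q.aab, v), (q.ab, w)] := by
    simp [evalWP, rw1, evalPolyP, evalMonoP, monoVal]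
  have e2 : evalWP [s, t, v, w] (rw2 q)
      = [(q.a, t), (q.b, s), (q.ab, s * t + w), (q.aab, s * t ^ 2 + v)] := by
    simp [evalWP, rw2, evalPolyP, evalMonoP, monoVal]
  rw [e1, e2] at h
  exact h

end

/-! ### Constant words -/

/-- `x_{p₁}(1) x_{p₄}(1) x_{-p₁}(1) x_{-p₄}(1) x_{p₁}(1) x_{p₄}(1)` -/
def n1W : List (ℕ × ℤ) := [(33,1),(24,1), (14,1),(23,1), (33,1),(24,1)]

/-- `n_{p₁} n_{p₄}` -/
def w1W : List (ℕ × ℤ) := [(33,1),(14,-1),(33,1), (24,1),(23,-1),(24,1)]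

/-- `α(0,1) α⁻(1,1) α(1,0)` for the class of `p₂, p₃` -/
def n2W : List (ℕ × ℤ) :=
  [(27,0),(25,0),(28,1),(30,1), (20,1),(22,1),(19,0),(17,1), (27,1),(25,1),(28,1),(30,0)]

/-- `n_{p₂} n_{p₃} n_{p₂} n_{p₃}` -/
def w2W : List (ℕ × ℤ) :=
  [(27,1),(20,-1),(27,1), (25,1),(22,-1),(25,1), (27,1),(20,-1),(27,1), (25,1),(22,-1),(25,1)]

set_option maxRecDepth 1000000 in
theorem chk_n1 : ∀ col ∈ allCols, vecEqP 2 (wordColP chevF4 2 (constW n1W) col)
    (wordColP chevF4 2 (constW w1W) col) = true := by decide +kernel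

set_option maxRecDepth 1000000 in
theorem chk_n2 : ∀ col ∈ allCols, vecEqP 2 (wordColP chevF4 2 (constW n2W) col)
    (wordColP chevF4 2 (constW w2W) col) = true := by decide +kernel

section

variable {K : Type*} [Field K]

theorem n1_eq (hp : ((2 : ℕ) : K) = 0) :
    chevF4.wordMat K (n1W.map fun p => (p.1, ((p.2 : ℤ) : K)))
      = chevF4.wordMat K (w1W.map fun p => (p.1, ((p.2 : ℤ) : K))) := by
  have h := wordMat_eq_of_check hp ([] : List K) _ _ (by decide) chk_n1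
  rw [evalWP_constW, evalWP_constW] at h
  exact h

theorem n2_eq (hp : ((2 : ℕ) : K) = 0) :
    chevF4.wordMat K (n2W.map fun p => (p.1, ((p.2 : ℤ) : K)))
      = chevF4.wordMat K (w2W.map fun p => (p.1, ((p.2 : ℤ) : K))) := by
  have h := wordMat_eq_of_check hp ([] : List K) _ _ (by decide) chk_n2
  rw [evalWP_constW, evalWP_constW] at h
  exact h

end

end Cfsg.Agent.Lib.Helper5.F4T
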