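import Mathlib
import Cfsg.Prelude.Def_ChevStructure
import Cfsg.Prelude.Def_LieTwisted
import Cfsg.Agent.Lib.Helper5.F4T.Tau

set_option autoImplicit false

/-!
Field endomorphisms act on `F₄(K)`; the square of `τ` is the Frobenius map.
-/

namespace Cfsg.Agent.Lib.Helper5.F4T

open Cfsg Cfsg.Lie Cfsg.Agent.Lib.Helper5.ChevSym Cfsg.Agent.Lib.Helper5.ChevSymP
  Cfsg.Agent.Lib.Helper5.ChevStruct Cfsg.Agent.Lib.Helper5.Ree

variable {K : Type*} [Field K]

/-- the action of a field endomorphism on `F₄(K)` -/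
noncomputable def fieldHom (f : K →+* K) : ↥(chevF4.group K) →* ↥(chevF4.group K) :=
  ((Matrix.GeneralLinearGroup.map f).comp (chevF4.group K).subtype).codRestrict (chevF4.group K)
    (fun g => map_group_le chevF4 f ⟨g.1, g.2, rfl⟩)

theorem fieldHom_val (f : K →+* K) (g : ↥(chevF4.group K)) :
    ((fieldHom f g).1 : Matrix chevF4.Idx chevF4.Idx K)
      = (g.1 : Matrix chevF4.Idx chevF4.Idx K).map f := rfl

theorem fieldHom_xG (f : K →+* K) (r : ℕ) (t : K) : fieldHom f (xG r t) = xG r (f t) := by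
  apply Subtype.ext
  apply Units.ext
  rw [fieldHom_val]
  show (chevF4.x K r t).map f = chevF4.x K r (f t)
  rw [x_map]

theorem fieldHom_comp (f g : K →+* K) (x : ↥(chevF4.group K)) :
    fieldHom f (fieldHom g x) = fieldHom (f.comp g) x := by
  apply Subtype.ext
  apply Units.ext
  rw [fieldHom_val, fieldHom_val, fieldHom_val]
  ext i j
  simp

theorem fieldHom_id (x : ↥(chevF4.group K)) : fieldHom (RingHom.id K) x = x := by
  apply Subtype.ext
  apply Units.ext
  rw [fieldHom_val]
  ext i j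
  simp

theorem fieldHom_bijective (f : K →+* K) (hf : Function.Bijective f) :
    Function.Bijective (fieldHom f) := by
  let e : K ≃+* K := RingEquiv.ofBijective f hf
  have h1 : (e.symm : K →+* K).comp f = RingHom.id K := by
    ext x
    exact e.symm_apply_apply x
  have h2 : f.comp (e.symm : K →+* K) = RingHom.id K := by
    ext x
    exact e.apply_symm_apply x
  constructor
  · intro a b hab
    have := congrArg (fieldHom (e.symm : K →+* K)) hab
    rwa [fieldHom_comp, fieldHom_comp, h1, fieldHom_id, fieldHom_id] at this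
  · intro a
    refine ⟨fieldHom (e.symm : K →+* K) a, ?_⟩
    rw [fieldHom_comp, h2, fieldHom_id]

/-- two endomorphisms of `F₄(K)` that agree on the root elements are equal -/
theorem hom_ext_xG {M : Type*} [Monoid M] (φ ψ : ↥(chevF4.group K) →* M)
    (h : ∀ (r : ℕ) (t : K), φ (xG r t) = ψ (xG r t)) : φ = ψ := by
  apply MonoidHom.ext
  rintro ⟨g, hg⟩
  refine group_induction (p := fun g => ∀ hg : g ∈ chevF4.group K, φ ⟨g, hg⟩ = ψ ⟨g, hg⟩)
    ?_ ?_ ?_ g hg hg
  · intro h1
    have : (⟨1, h1⟩ : ↥(chevF4.group K)) = 1 := rfl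
    rw [this, map_one, map_one]
  · intro r t hx
    exact h r t
  · intro a b ha hb iha ihb hab
    have : (⟨a * b, hab⟩ : ↥(chevF4.group K)) = ⟨a, ha⟩ * ⟨b, hb⟩ := rfl
    rw [this, map_mul, map_mul, iha ha, ihb hb]

theorem xG_of_not_lt (r : ℕ) (hr : ¬ r < 48) (t : K) : xG r t = 1 :=
  Subtype.ext (xGL_of_not_lt r hr t)

section char2

variable [CharP K 2]

/-- `τ² ` is the Frobenius map -/
theorem tau_tau : (tau (K := K)).comp tau = fieldHom (frobenius K 2) := by
  apply hom_ext_xG
  intro r t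
  rw [MonoidHom.comp_apply, tau_xG, tau_xG, fieldHom_xG, frobenius_def]
  by_cases hr : r < 48
  · obtain ⟨-, h2, h3, -⟩ := piR_facts r hr
    rw [h2, ← pow_mul, h3]
  · rw [piR_of_not_lt r hr, piR_of_not_lt r hr, xG_of_not_lt r hr, xG_of_not_lt r hr]

theorem tau_bijective (hperf : ∀ x : K, ∃ y : K, y ^ 2 = x) : Function.Bijective (tau (K := K)) := by
  have hb : Function.Bijective ((tau (K := K)).comp tau) := by
    rw [tau_tau]
    apply fieldHom_bijective
    refine ⟨frobenius_inj K 2, fun x => ?_⟩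
    obtain ⟨y, hy⟩ := hperf x
    exact ⟨y, by rw [frobenius_def, hy]⟩
  have hb' : Function.Bijective ((tau (K := K)) ∘ (tau (K := K))) := hb
  exact ⟨Function.Injective.of_comp hb'.1, Function.Surjective.of_comp hb'.2⟩

end char2

end Cfsg.Agent.Lib.Helper5.F4T
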