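import Mathlib
import Cfsg.Prelude.Def_ChevStructure
import Cfsg.Prelude.Def_LieTwisted
import Cfsg.Agent.Lib.Helper5.F4T.Sigma
import Cfsg.Agent.Lib.Helper5.F4T.Ident
import Cfsg.Agent.Lib.Helper5.ChevTwistH

set_option autoImplicit false

/-!
The group of fixed points of `σ`; the generators of the large Ree group are fixed.
-/

namespace Cfsg.Agent.Lib.Helper5.F4T

open Cfsg Cfsg.Lie Cfsg.Agent.Lib.Helper5.ChevSym Cfsg.Agent.Lib.Helper5.ChevSymP
  Cfsg.Agent.Lib.Helper5.ChevStruct Cfsg.Agent.Lib.Helper5.Ree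

variable {K : Type*} [Field K] [CharP K 2] (m : ℕ)

/-- `θ : t ↦ t^(2^m)` -/
noncomputable def ph : K →+* K := iterateFrobenius K 2 m

/-- `2θ : t ↦ t^(2^(m+1))` -/
noncomputable def ps : K →+* K := iterateFrobenius K 2 (m + 1)

theorem ph_apply (x : K) : ph m x = x ^ 2 ^ m := by
  unfold ph
  rw [iterateFrobenius_def]

theorem ps_apply (x : K) : ps m x = x ^ 2 ^ (m + 1) := by
  unfold ps
  rw [iterateFrobenius_def]

theorem ps_eq (x : K) : ps m x = (ph m x) ^ 2 := by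
  rw [ps_apply, ph_apply, ← pow_mul, pow_succ]

theorem ps_ph (hq : ∀ x : K, x ^ 2 ^ (2 * m + 1) = x) (x : K) : ps m (ph m x) = x := by
  rw [ps_apply, ph_apply, ← pow_mul, ← pow_add]
  have : m + (m + 1) = 2 * m + 1 := by ring
  rw [this, hq]

theorem ph_ps (hq : ∀ x : K, x ^ 2 ^ (2 * m + 1) = x) (x : K) : ph m (ps m x) = x := by
  rw [ps_apply, ph_apply, ← pow_mul, ← pow_add]
  have : m + 1 + m = 2 * m + 1 := by ring
  rw [this, hq]

theorem pow_expo_long (r : ℕ) (h : lam r = 1) (t : K) : t ^ expo m r = ph m t := by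
  rw [ph_apply]
  unfold expo
  rw [h, mul_one]

theorem pow_expo_short (r : ℕ) (h : lam r = 2) (t : K) : t ^ expo m r = ps m t := by
  rw [ps_apply]
  unfold expo
  rw [h, pow_succ]

/-! ### The classes of type `A₁ × A₁` -/

/-- the eight classes of type `A₁ × A₁`: the short root, then the long root -/
def pairs : List (ℕ × ℕ) :=
  [(33, 24), (38, 43), (39, 45), (37, 32), (14, 23), (9, 4), (8, 2), (10, 15)]

theorem pairs_facts : ∀ p ∈ pairs, p.1 < 48 ∧ p.2 < 48 ∧ piR p.1 = p.2 ∧ piR p.2 = p.1 ∧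
    lam p.1 = 2 ∧ lam p.2 = 1 ∧ commOK chevF4 p.1 p.2 = true := by decide

theorem quads_facts : ∀ q ∈ quads, piR q.a = q.b ∧ piR q.b = q.a ∧ piR q.ab = q.aab ∧
    piR q.aab = q.ab ∧ lam q.a = 2 ∧ lam q.b = 1 ∧ lam q.ab = 2 ∧ lam q.aab = 1 := by decide

/-- `σ` on the product of the root elements of a class of type `A₁ × A₁` -/
theorem sigGL_pair (p : ℕ × ℕ) (hp : p ∈ pairs) (a b : K) :
    sigGL m (wordGL chevF4 hF4 [(p.1, a), (p.2, b)])
      = wordGL chevF4 hF4 [(p.1, ph m b), (p.2, ps m a)] := by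
  obtain ⟨-, -, h3, h4, h5, h6, h7⟩ := pairs_facts p hp
  rw [sigGL_wordGL]
  unfold mapW
  simp only [List.map_cons, List.map_nil]
  rw [pow_expo_short m p.1 h5, pow_expo_long m p.2 h6, h3, h4]
  have hc := xGL_commute (K := K) chevF4 hF4 p.1 p.2 h7 (ph m b) (ps m a)
  rw [wordGL_cons', wordGL_cons', wordGL_cons', wordGL_cons']
  simp only [wordGL, List.map_nil, List.prod_nil, mul_one]
  exact hc.eq.symm

/-- `σ` on the product of the root elements of a class of type `B₂` -/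
theorem sigGL_quad (q : Quad) (hq : q ∈ quads) (t1 t2 t3 t4 : K) :
    sigGL m (wordGL chevF4 hF4 [(q.a, t1), (q.b, t2), (q.ab, t3), (q.aab, t4)])
      = wordGL chevF4 hF4 [(q.a, ph m t2), (q.b, ps m t1),
          (q.ab, ps m t1 * ph m t2 + ph m t4), (q.aab, ps m t1 * (ph m t2) ^ 2 + ps m t3)] := by
  obtain ⟨h1, h2, h3, h4, h5, h6, h7, h8⟩ := quads_facts q hq
  rw [sigGL_wordGL]
  unfold mapW
  simp only [List.map_cons, List.map_nil]
  rw [pow_expo_short m q.a h5, pow_expo_long m q.b h6, pow_expo_short m q.ab h7,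
    pow_expo_long m q.aab h8, h1, h2, h3, h4]
  apply Units.ext
  rw [wordGL_val, wordGL_val]
  exact reorder two_eq_zero q hq _ _ _ _

/-! ### The words of the generators -/

theorem pairWord_eq (r rbar : ℕ) (t : K) :
    f4PairWord (2 ^ m) r rbar t = [(r, ph m t), (rbar, t)] := by
  unfold f4PairWord
  rw [ph_apply]

theorem classWord_eq (a b ab aab : ℕ) (t u : K) :
    b2ClassWord (2 ^ m) a b ab aab t u
      = [(a, ph m t), (b, t), (ab, t * ph m t + u), (aab, ps m u)] := by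
  unfold b2ClassWord
  rw [ph_apply, ps_apply]
  have e1 : t ^ (2 ^ m + 1) = t * t ^ 2 ^ m := by rw [pow_succ, mul_comm]
  have e2 : u ^ (2 * 2 ^ m) = u ^ 2 ^ (m + 1) := by rw [pow_succ, mul_comm]
  rw [e1, e2]

/-- the fixed points of `σ` in `F₄(K)` -/
def fixG : Subgroup (GL chevF4.Idx K) where
  carrier := {g | g ∈ chevF4.group K ∧ sigGL m g = g}
  one_mem' := ⟨one_mem _, sigGL_one m⟩
  mul_mem' := by
    rintro a b ⟨ha, ha'⟩ ⟨hb, hb'⟩
    exact ⟨mul_mem ha hb, by rw [sigGL_mul m ha hb, ha', hb']⟩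
  inv_mem' := by
    rintro a ⟨ha, ha'⟩
    exact ⟨inv_mem ha, by rw [sigGL_inv m ha, ha']⟩

theorem mem_fixG (g : GL chevF4.Idx K) :
    g ∈ fixG m ↔ g ∈ chevF4.group K ∧ sigGL m g = g := Iff.rfl

theorem fixG_le_group : fixG (K := K) m ≤ chevF4.group K := fun _ hg => hg.1

/-- the words of the classes of type `A₁ × A₁` are fixed -/
theorem pair_mem_fixG (hq : ∀ x : K, x ^ 2 ^ (2 * m + 1) = x) (p : ℕ × ℕ) (hp : p ∈ pairs)
    (t : K) : wordGL chevF4 hF4 (f4PairWord (2 ^ m) p.1 p.2 t) ∈ fixG m := by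
  refine ⟨wordGL_mem_group _ _ _, ?_⟩
  rw [pairWord_eq, sigGL_pair m p hp, ps_ph m hq]

/-- the words of the classes of type `B₂` are fixed -/
theorem class_mem_fixG (hq : ∀ x : K, x ^ 2 ^ (2 * m + 1) = x) (q : Quad) (hqq : q ∈ quads)
    (t u : K) : wordGL chevF4 hF4 (b2ClassWord (2 ^ m) q.a q.b q.ab q.aab t u) ∈ fixG m := by
  refine ⟨wordGL_mem_group _ _ _, ?_⟩
  rw [classWord_eq, sigGL_quad m q hqq, ps_ph m hq, ph_ps m hq]
  have e : t * ph m t ^ 2 + ps m (t * ph m t + u) = ps m u := by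
    rw [map_add, map_mul, ps_ph m hq, ps_eq m t]
    have h2 : (2 : K) = 0 := by
      have := two_eq_zero (K := K)
      exact_mod_cast this
    linear_combination (t * ph m t ^ 2) * h2
  rw [e]

theorem mem_of_val_eq_wordMat' {g : GL chevF4.Idx K} {w : List (ℕ × K)}
    (h : (g : Matrix chevF4.Idx chevF4.Idx K) = chevF4.wordMat K w) : g = wordGL chevF4 hF4 w := by
  apply Units.ext
  rw [h, wordGL_val]

/-- the large Ree group consists of fixed points -/
theorem twisted_le_fixG (hq : ∀ x : K, x ^ 2 ^ (2 * m + 1) = x) :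
    twistedF4 K (2 ^ m) ≤ fixG m := by
  unfold twistedF4 ChevalleyDatum.genSubgroup
  rw [Subgroup.closure_le]
  rintro g ⟨w, hw, hg⟩
  rw [mem_of_val_eq_wordMat' hg]
  rcases hw with ⟨t, hw | hw⟩ | ⟨t, u, hw | hw⟩
  · rw [hw]
    exact pair_mem_fixG m hq (33, 24) (by decide) t
  · rw [hw]
    exact pair_mem_fixG m hq (14, 23) (by decide) t
  · rw [hw]
    exact class_mem_fixG m hq ⟨27, 25, 28, 30⟩ (by decide) t u
  · rw [hw]
    exact class_mem_fixG m hq ⟨20, 22, 19, 17⟩ (by decide) t u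

omit [CharP K 2] in
theorem pair_pos_mem_twisted (t : K) :
    wordGL chevF4 hF4 (f4PairWord (2 ^ m) 33 24 t) ∈ twistedF4 K (2 ^ m) := by
  apply Subgroup.subset_closure
  exact ⟨_, Or.inl ⟨t, Or.inl rfl⟩, wordGL_val _ _ _⟩

omit [CharP K 2] in
theorem pair_neg_mem_twisted (t : K) :
    wordGL chevF4 hF4 (f4PairWord (2 ^ m) 14 23 t) ∈ twistedF4 K (2 ^ m) := by
  apply Subgroup.subset_closure
  exact ⟨_, Or.inl ⟨t, Or.inr rfl⟩, wordGL_val _ _ _⟩

omit [CharP K 2] in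
theorem class_pos_mem_twisted (t u : K) :
    wordGL chevF4 hF4 (b2ClassWord (2 ^ m) 27 25 28 30 t u) ∈ twistedF4 K (2 ^ m) := by
  apply Subgroup.subset_closure
  exact ⟨_, Or.inr ⟨t, u, Or.inl rfl⟩, wordGL_val _ _ _⟩

omit [CharP K 2] in
theorem class_neg_mem_twisted (t u : K) :
    wordGL chevF4 hF4 (b2ClassWord (2 ^ m) 20 22 19 17 t u) ∈ twistedF4 K (2 ^ m) := by
  apply Subgroup.subset_closure
  exact ⟨_, Or.inr ⟨t, u, Or.inr rfl⟩, wordGL_val _ _ _⟩

end Cfsg.Agent.Lib.Helper5.F4T
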