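import Mathlib
import Cfsg.Prelude.Def_ChevStructure
import Cfsg.Prelude.Def_LieTwisted
import Cfsg.Agent.Lib.Helper5.F4T.Sigma
import Cfsg.Agent.Lib.Helper5.TwX.W

set_option autoImplicit false

/-!
The symmetry of the roots of `F₄` (long roots ↔ short roots), the two words `w_J` and the
elements of the Weyl group commuting with the symmetry.
-/

namespace Cfsg.Agent.Lib.Helper5.F4T

open Cfsg Cfsg.Lie Cfsg.Agent.Lib.Helper5.ChevSym Cfsg.Agent.Lib.Helper5.ChevSymP
  Cfsg.Agent.Lib.Helper5.ChevStruct Cfsg.Agent.Lib.Helper5.Ree Cfsg.Agent.Lib.Helper5.TwX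

/-- the list of the values of `π` -/
def piList : List ℕ := [3, 7, 8, 0, 9, 11, 18, 1, 2, 4, 15, 5, 16, 21, 23, 10, 12, 19, 6, 17, 22,
  13, 20, 14, 33, 27, 34, 25, 30, 41, 28, 35, 37, 24, 26, 31, 42, 32, 43, 45, 46, 29, 36, 38, 47,
  39, 40, 44]

/-- the symmetry of the roots as a datum -/
def gF4 : GraphData where
  rho := [3, 2, 1, 0]
  rhoInv := [3, 2, 1, 0]
  pr := piList
  prInv := piList
  eps := List.replicate 48 1

set_option maxRecDepth 1000000 in
theorem chkPerm_gF4 : checkGraphPerm chevF4 gF4 = true := by decide +kernel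

set_option maxRecDepth 1000000 in
theorem chkSigma_gF4 : checkSigma chevF4 gF4 = true := by decide +kernel

theorem sigmaOK_gF4 : SigmaOK chevF4 gF4 := sigmaOK_of_check _ _ chkSigma_gF4

theorem pr_eq : ∀ r < 48, gF4.pr.getD r 0 = piR r := by decide +kernel

/-- `ρ` on the indices of the fundamental roots -/
theorem rhoS_lt : ∀ i < 4, rhoS gF4 i < 4 ∧ piR (chevF4.simple i) = chevF4.simple (rhoS gF4 i) := by
  decide

/-- the words `w_J` -/
def orbsF4 : List (List ℕ) := [[0, 3], [1, 2, 1, 2]]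

/-! ### Additive triples of roots -/

/-- triples `(r, s, r + s)` of roots, a set stable under the Weyl group -/
def triplesF4 : List (ℕ × ℕ × ℕ) :=
  [(3, 18, 0), (3, 19, 1), (3, 20, 2), (3, 27, 4), (3, 28, 5), (3, 29, 6), (3, 41, 18), (3, 42,
  19), (3, 43, 20), (3, 45, 27), (3, 46, 28), (3, 47, 29), (7, 11, 0), (7, 12, 1), (7, 13, 2),
  (7, 30, 11), (7, 31, 12), (7, 32, 13), (7, 34, 15), (7, 35, 16), (7, 36, 17), (7, 45, 34), (7,
  46, 35), (7, 47, 36), (8, 9, 0), (8, 10, 1), (8, 14, 4), (8, 25, 9), (8, 26, 10), (8, 32, 14),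
  (8, 33, 15), (8, 37, 21), (8, 38, 22), (8, 43, 33), (8, 46, 37), (8, 47, 38), (9, 8, 0), (9,
  10, 2), (9, 14, 5), (9, 22, 8), (9, 24, 10), (9, 31, 14), (9, 33, 16), (9, 37, 23), (9, 39,
  25), (9, 42, 33), (9, 45, 37), (9, 47, 39), (10, 8, 1), (10, 9, 2), (10, 14, 6), (10, 21, 8),
  (10, 23, 9), (10, 30, 14), (10, 33, 17), (10, 38, 24), (10, 39, 26), (10, 41, 33), (10, 45,
  38), (10, 46, 39), (11, 7, 0), (11, 12, 4), (11, 13, 5), (11, 17, 7), (11, 24, 12), (11, 26,
  13), (11, 34, 21), (11, 35, 23), (11, 40, 30), (11, 42, 34), (11, 43, 35), (11, 47, 40), (12,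
  7, 1), (12, 11, 4), (12, 13, 6), (12, 16, 7), (12, 23, 11), (12, 25, 13), (12, 34, 22), (12,
  36, 24), (12, 40, 31), (12, 41, 34), (12, 43, 36), (12, 46, 40), (13, 7, 2), (13, 11, 5), (13,
  12, 6), (13, 15, 7), (13, 21, 11), (13, 22, 12), (13, 35, 25), (13, 36, 26), (13, 40, 32),
  (13, 41, 35), (13, 42, 36), (13, 45, 40), (14, 8, 4), (14, 9, 5), (14, 10, 6), (14, 15, 8),
  (14, 16, 9), (14, 17, 10), (14, 37, 30), (14, 38, 31), (14, 39, 32), (14, 41, 37), (14, 42,
  38), (14, 43, 39), (18, 3, 0), (18, 6, 3), (18, 19, 15), (18, 20, 16), (18, 24, 19), (18, 26,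
  20), (18, 27, 21), (18, 28, 23), (18, 31, 27), (18, 32, 28), (18, 44, 41), (18, 47, 44), (19,
  3, 1), (19, 5, 3), (19, 18, 15), (19, 20, 17), (19, 23, 18), (19, 25, 20), (19, 27, 22), (19,
  29, 24), (19, 30, 27), (19, 32, 29), (19, 44, 42), (19, 46, 44), (20, 3, 2), (20, 4, 3), (20,
  18, 16), (20, 19, 17), (20, 21, 18), (20, 22, 19), (20, 28, 25), (20, 29, 26), (20, 30, 28),
  (20, 31, 29), (20, 44, 43), (20, 45, 44), (27, 2, 3), (27, 3, 4), (27, 16, 18), (27, 17, 19),
  (27, 18, 21), (27, 19, 22), (27, 25, 28), (27, 26, 29), (27, 28, 30), (27, 29, 31), (27, 43,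
  44), (27, 44, 45), (28, 1, 3), (28, 3, 5), (28, 15, 18), (28, 17, 20), (28, 18, 23), (28, 20,
  25), (28, 22, 27), (28, 24, 29), (28, 27, 30), (28, 29, 32), (28, 42, 44), (28, 44, 46), (29,
  0, 3), (29, 3, 6), (29, 15, 19), (29, 16, 20), (29, 19, 24), (29, 20, 26), (29, 21, 27), (29,
  23, 28), (29, 27, 31), (29, 28, 32), (29, 41, 44), (29, 44, 47), (33, 4, 8), (33, 5, 9), (33,
  6, 10), (33, 8, 15), (33, 9, 16), (33, 10, 17), (33, 30, 37), (33, 31, 38), (33, 32, 39), (33,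
  37, 41), (33, 38, 42), (33, 39, 43), (34, 2, 7), (34, 5, 11), (34, 6, 12), (34, 7, 15), (34,
  11, 21), (34, 12, 22), (34, 25, 35), (34, 26, 36), (34, 32, 40), (34, 35, 41), (34, 36, 42),
  (34, 40, 45), (35, 1, 7), (35, 4, 11), (35, 6, 13), (35, 7, 16), (35, 11, 23), (35, 13, 25),
  (35, 22, 34), (35, 24, 36), (35, 31, 40), (35, 34, 41), (35, 36, 43), (35, 40, 46), (36, 0,
  7), (36, 4, 12), (36, 5, 13), (36, 7, 17), (36, 12, 24), (36, 13, 26), (36, 21, 34), (36, 23,
  35), (36, 30, 40), (36, 34, 42), (36, 35, 43), (36, 40, 47), (37, 1, 8), (37, 2, 9), (37, 6,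
  14), (37, 8, 21), (37, 9, 23), (37, 14, 30), (37, 17, 33), (37, 24, 38), (37, 26, 39), (37,
  33, 41), (37, 38, 45), (37, 39, 46), (38, 0, 8), (38, 2, 10), (38, 5, 14), (38, 8, 22), (38,
  10, 24), (38, 14, 31), (38, 16, 33), (38, 23, 37), (38, 25, 39), (38, 33, 42), (38, 37, 45),
  (38, 39, 47), (39, 0, 9), (39, 1, 10), (39, 4, 14), (39, 9, 25), (39, 10, 26), (39, 14, 32),
  (39, 15, 33), (39, 21, 37), (39, 22, 38), (39, 33, 43), (39, 37, 46), (39, 38, 47), (40, 0,
  11), (40, 1, 12), (40, 2, 13), (40, 11, 30), (40, 12, 31), (40, 13, 32), (40, 15, 34), (40,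
  16, 35), (40, 17, 36), (40, 34, 45), (40, 35, 46), (40, 36, 47), (44, 0, 18), (44, 1, 19),
  (44, 2, 20), (44, 4, 27), (44, 5, 28), (44, 6, 29), (44, 18, 41), (44, 19, 42), (44, 20, 43),
  (44, 27, 45), (44, 28, 46), (44, 29, 47)]

def memTriple (x : ℕ × ℕ × ℕ) (l : List (ℕ × ℕ × ℕ)) : Bool :=
  l.any fun y => Nat.beq x.1 y.1 && Nat.beq x.2.1 y.2.1 && Nat.beq x.2.2 y.2.2

theorem memTriple_iff (x : ℕ × ℕ × ℕ) (l : List (ℕ × ℕ × ℕ)) : memTriple x l = true ↔ x ∈ l := by
  unfold memTriple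
  rw [List.any_eq_true]
  constructor
  · rintro ⟨y, hy, h⟩
    simp only [Bool.and_eq_true, Nat.beq_eq] at h
    obtain ⟨⟨h1, h2⟩, h3⟩ := h
    have : x = y := by
      rcases x with ⟨x1, x2, x3⟩
      rcases y with ⟨y1, y2, y3⟩
      simp only at h1 h2 h3
      rw [h1, h2, h3]
    rw [this]
    exact hy
  · intro h
    refine ⟨x, h, ?_⟩
    simp

set_option maxRecDepth 1000000 in
theorem triples_refl : ∀ i < 4, ∀ x ∈ triplesF4,
    memTriple (chevF4.reflectRoot i x.1, chevF4.reflectRoot i x.2.1, chevF4.reflectRoot i x.2.2)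
      triplesF4 = true := by decide +kernel

set_option maxRecDepth 1000000 in
theorem triples_neg : ∀ x ∈ triplesF4, x.1 < 24 → x.2.1 < 24 → x.2.2 < 24 := by decide +kernel

theorem triples_mem : (27, 25, 28) ∈ triplesF4 ∧ (27, 28, 30) ∈ triplesF4 := by
  constructor <;> rw [← memTriple_iff] <;> decide

theorem triples_act (w : List ℕ) (hw : Wd chevF4 w) (x : ℕ × ℕ × ℕ) (hx : x ∈ triplesF4) :
    (wAct chevF4 w x.1, wAct chevF4 w x.2.1, wAct chevF4 w x.2.2) ∈ triplesF4 := by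
  induction w with
  | nil => exact hx
  | cons i w ih =>
    have hi : i < 4 := hw.head
    have h := triples_refl i hi _ (ih hw.tail)
    rw [memTriple_iff] at h
    exact h

/-- a word making `p₂` and `p₃` negative makes `p₂ + p₃` and `2p₂ + p₃` negative -/
theorem neg_of_neg (w : List ℕ) (hw : Wd chevF4 w)
    (h1 : ¬ chevF4.IsPosRoot (wAct chevF4 w 27)) (h2 : ¬ chevF4.IsPosRoot (wAct chevF4 w 25)) :
    ¬ chevF4.IsPosRoot (wAct chevF4 w 28) ∧ ¬ chevF4.IsPosRoot (wAct chevF4 w 30) := by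
  have l27 : wAct chevF4 w 27 < 48 := wAct_lt chevF4 hF4 w hw 27 (by decide)
  have l25 : wAct chevF4 w 25 < 48 := wAct_lt chevF4 hF4 w hw 25 (by decide)
  have l28 : wAct chevF4 w 28 < 48 := wAct_lt chevF4 hF4 w hw 28 (by decide)
  have l30 : wAct chevF4 w 30 < 48 := wAct_lt chevF4 hF4 w hw 30 (by decide)
  rw [isPos_iff] at h1 h2 ⊢
  rw [isPos_iff]
  have t1 := triples_neg _ (triples_act w hw _ triples_mem.1) (by simp only; omega)
    (by simp only; omega)
  simp only at t1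
  have t2 := triples_neg _ (triples_act w hw _ triples_mem.2) (by simp only; omega)
    (by simp only; omega)
  simp only at t2
  constructor <;> omega

/-! ### The hypotheses on the words -/

theorem wd_orbs : ∀ J ∈ orbsF4, ∀ a ∈ J, a < chevF4.rank := by decide

theorem trans_orbs : ∀ J ∈ orbsF4, ∀ a ∈ J, ∀ b ∈ J,
    ∃ k < 4, (fun i => gF4.rho.getD i 0)^[k] a = b := by decide

set_option maxRecDepth 100000 in
theorem comm_orbs : ∀ J ∈ orbsF4, ∀ r < chevF4.nroots,
    wAct chevF4 J (gF4.pr.getD r 0) = gF4.pr.getD (wAct chevF4 J r) 0 := by decide +kernel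

set_option maxRecDepth 100000 in
theorem invol_orbs : ∀ J ∈ orbsF4, ∀ r < chevF4.nroots, wAct chevF4 J (wAct chevF4 J r) = r := by
  decide +kernel

theorem cover_orbs : ∀ i < chevF4.rank, ∃ J ∈ orbsF4, i ∈ J := by decide

theorem orth_03 : ∀ a ∈ [0, 3], ∀ b ∈ [0, 3], a ≠ b →
    chevF4.reflectRoot a (chevF4.simple b) = chevF4.simple b := by decide +kernel

theorem act_facts : chevF4.simple 1 = 27 ∧ chevF4.simple 2 = 25 ∧
    wAct chevF4 [1] (chevF4.simple 2) = 30 ∧ wAct chevF4 [1, 2] (chevF4.simple 1) = 28 ∧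
    wAct chevF4 [1, 2, 1] (chevF4.simple 2) = 25 := by decide +kernel

theorem drop_1212 (w : List ℕ) (hw : Wd chevF4 w)
    (hneg : ∀ a ∈ [1, 2, 1, 2], ¬ chevF4.IsPosRoot (wAct chevF4 w (chevF4.simple a))) :
    (negSet chevF4 (w ++ [1, 2, 1, 2])).card + [1, 2, 1, 2].length = (negSet chevF4 w).card := by
  obtain ⟨s1, s2, a1, a2, a3⟩ := act_facts
  have h1 := hneg 1 (by simp)
  have h2 := hneg 2 (by simp)
  rw [s1] at h1
  rw [s2] at h2
  obtain ⟨h28, h30⟩ := neg_of_neg w hw h1 h2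
  have w1 : Wd chevF4 [1] := by intro i hi; simp at hi; rw [hi]; decide
  have w12 : Wd chevF4 [1, 2] := by
    intro i hi; simp at hi; rcases hi with rfl | rfl <;> decide
  have w121 : Wd chevF4 [1, 2, 1] := by
    intro i hi; simp at hi; rcases hi with rfl | rfl | rfl <;> decide
  have c1 := card_negSet_append chevF4 hF4 w hw 1 (by decide) (by rw [s1]; exact h1)
  have c2 := card_negSet_append chevF4 hF4 (w ++ [1]) (hw.append w1) 2 (by decide) (by
    rw [wAct_append, a1]; exact h30)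
  have c3 := card_negSet_append chevF4 hF4 (w ++ [1] ++ [2]) ((hw.append w1).append (by
    intro i hi; simp at hi; rw [hi]; decide)) 1 (by decide) (by
    rw [List.append_assoc, wAct_append]
    have : ([1] ++ [2] : List ℕ) = [1, 2] := rfl
    rw [this, a2]; exact h28)
  have c4 := card_negSet_append chevF4 hF4 (w ++ [1] ++ [2] ++ [1]) (((hw.append w1).append (by
    intro i hi; simp at hi; rw [hi]; decide)).append w1) 2 (by decide) (by
    rw [List.append_assoc, List.append_assoc, wAct_append]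
    have : ([1] ++ ([2] ++ [1]) : List ℕ) = [1, 2, 1] := rfl
    rw [this, a3]; exact h2)
  have e : w ++ [1] ++ [2] ++ [1] ++ [2] = w ++ [1, 2, 1, 2] := by simp
  rw [e] at c4
  simp only [List.length_cons, List.length_nil]
  omega

theorem orbsX_F4 : OrbsX chevF4 gF4 orbsF4 where
  wd := wd_orbs
  trans := trans_orbs
  comm := comm_orbs
  invol := invol_orbs
  cover := cover_orbs
  drop := by
    intro J hJ w hw hneg
    simp only [orbsF4, List.mem_cons, List.not_mem_nil, or_false] at hJ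
    rcases hJ with rfl | rfl
    · exact card_negSet_append_orth chevF4 hF4 w hw [0, 3] (wd_orbs _ (by decide)) (by decide)
        orth_03 hneg
    · exact drop_1212 w hw hneg

/-- the sublists of the words `w_J` commuting with the symmetry -/
def subOK (J A : List ℕ) : Bool :=
  !((List.range 48).all fun r => Nat.beq (wAct chevF4 A (piR r)) (piR (wAct chevF4 A r))) ||
    ((List.range 48).all fun r => Nat.beq (wAct chevF4 A r) r) ||
    ((List.range 48).all fun r => Nat.beq (wAct chevF4 A r) (wAct chevF4 J r))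

set_option maxRecDepth 1000000 in
theorem subOK_all : ∀ J ∈ orbsF4, ∀ A ∈ J.sublists, subOK J A = true := by decide +kernel

theorem hsub_F4 : ∀ J ∈ orbsF4, ∀ A : List ℕ, A.Sublist J → StableW chevF4 gF4 A →
    (∀ r < chevF4.nroots, wAct chevF4 A r = r) ∨
      (∀ r < chevF4.nroots, wAct chevF4 A r = wAct chevF4 J r) := by
  intro J hJ A hA hst
  have h := subOK_all J hJ A ((List.mem_sublists).2 hA)
  unfold subOK at h
  simp only [Bool.or_eq_true, Bool.not_eq_true', List.all_eq_true, List.mem_range,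
    Nat.beq_eq] at h
  rcases h with (h | h) | h
  · exfalso
    have : ((List.range 48).all fun r =>
        Nat.beq (wAct chevF4 A (piR r)) (piR (wAct chevF4 A r))) = true := by
      rw [List.all_eq_true]
      intro r hr
      rw [List.mem_range] at hr
      rw [Nat.beq_eq]
      have h1 := hst.2 r hr
      rw [pr_eq r hr, pr_eq _ (wAct_lt chevF4 hF4 A hst.1 r hr)] at h1
      exact h1
    rw [this] at h
    exact Bool.noConfusion h
  · left
    exact h
  · right
    exact h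

theorem hdist_F4 : ∀ J ∈ orbsF4, ∀ J' ∈ orbsF4,
    (∀ r < chevF4.nroots, wAct chevF4 J r = wAct chevF4 J' r) → J = J' := by
  intro J hJ J' hJ' h
  simp only [orbsF4, List.mem_cons, List.not_mem_nil, or_false] at hJ hJ'
  rcases hJ with rfl | rfl <;> rcases hJ' with rfl | rfl
  · rfl
  · exact absurd (h 33 (by decide)) (by decide)
  · exact absurd (h 33 (by decide)) (by decide)
  · rfl

end Cfsg.Agent.Lib.Helper5.F4T
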