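import Mathlib
import Cfsg.Prelude.Def_ChevStructure
import Cfsg.Prelude.Def_LieTwisted
import Cfsg.Agent.Lib.Helper5.F4T.Fix
import Cfsg.Agent.Lib.Helper5.F4T.Orbs
import Cfsg.Agent.Lib.Helper5.ChevGroupCard
import Cfsg.Agent.Lib.Helper5.ChevBruhatNF

set_option autoImplicit false

/-!
The Bruhat decomposition of the fixed points of `σ` in `F₄(K)`.
-/

namespace Cfsg.Agent.Lib.Helper5.F4T

open Cfsg Cfsg.Lie Cfsg.Agent.Lib.Helper5.ChevSym Cfsg.Agent.Lib.Helper5.ChevSymP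
  Cfsg.Agent.Lib.Helper5.ChevStruct Cfsg.Agent.Lib.Helper5.Ree Cfsg.Agent.Lib.Helper5.TwX

variable {K : Type*} [Field K] [CharP K 2] (m : ℕ)

/-! ### `σ` on `N` -/

theorem sigGL_nGL (i : ℕ) (hi : i < 4) :
    sigGL m (nGL chevF4 hF4 i : GL chevF4.Idx K) = nGL chevF4 hF4 (rhoS gF4 i) := by
  unfold nGL
  rw [sigGL_wordGL, mapW_nWord m _ (simple_lt chevF4 hF4 i hi), one_pow, (rhoS_lt i hi).2]

theorem sigGL_wGL (w : List ℕ) (hw : Wd chevF4 w) :
    sigGL m (wGL chevF4 hF4 w : GL chevF4.Idx K) = wGL chevF4 hF4 (w.map (rhoS gF4)) := by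
  induction w with
  | nil => rw [wGL_nil, sigGL_one]; rfl
  | cons i w ih =>
    have hi : i < 4 := hw.head
    rw [wGL_cons, sigGL_mul m (monomial_le_group chevF4 hF4 (nGL_mem chevF4 hF4 i hi))
      (monomial_le_group chevF4 hF4 (wGL_mem chevF4 hF4 w hw.tail)), sigGL_nGL m i hi, ih hw.tail,
      List.map_cons, wGL_cons]

omit [CharP K 2] in
theorem unegSub_le_pos (w : List ℕ) (hw : Wd chevF4 w) :
    unegSub chevF4 K w ≤ chevF4.posUnipotent K :=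
  (unegSub_le_unegOf chevF4 hF4 w hw).trans (unegOf_le_pos chevF4 _)

theorem sigGL_mem_unegSub (w : List ℕ) (hw : Wd chevF4 w) (v : GL chevF4.Idx K)
    (hv : v ∈ unegSub chevF4 K w) : sigGL m v ∈ unegSub chevF4 K (w.map (rhoS gF4)) := by
  unfold unegSub rootSetSub at hv
  refine sigGL_mem_of_closure m _ ?_ _ ?_ v hv
  · rintro s ⟨r, t, -, hs⟩
    rw [mem_of_val_eq_x hs]
    exact xGL_mem_group _ _ _ _
  · rintro s ⟨r, t, ⟨hr1, hr2⟩, hs⟩
    rw [mem_of_val_eq_x hs, sigGL_xGL]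
    apply xGL_mem_rootSetSub
    have hr : r < 48 := hr1.1
    refine ⟨(isPos_piR r hr).2 hr1, ?_⟩
    have h1 := wAct_map_rho chevF4 hF4 gF4 sigmaOK_gF4 w hw r hr
    rw [pr_eq r hr, pr_eq _ (wAct_lt chevF4 hF4 w hw r hr)] at h1
    rw [h1, isPos_piR _ (wAct_lt chevF4 hF4 w hw r hr)]
    exact hr2

/-! ### The fixed points in `B` -/

theorem borel_fix (b : GL chevF4.Idx K) (hb : b ∈ chevF4.borelSubgroup K) (hfix : b ∈ fixG m) :
    ∃ u ∈ chevF4.posUnipotent K ⊓ fixG m, ∃ h ∈ chevF4.diagonalSubgroup K ⊓ fixG m,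
      b = u * h := by
  have hb' : b ∈ ((chevF4.posUnipotent K ⊔ chevF4.diagonalSubgroup K :
      Subgroup (GL chevF4.Idx K)) : Set (GL chevF4.Idx K)) := hb
  rw [Subgroup.coe_mul_of_right_le_normalizer_left _ _ (diagonal_le_normalizer_pos chevF4 hF4)] at hb'
  obtain ⟨u, hu, h, hh, e⟩ := Set.mem_mul.1 hb'
  have huG := pos_le_group chevF4 hF4 hu
  have hhG := diagonal_le_group chevF4 hF4 hh
  have hfix' := hfix.2
  rw [← e, sigGL_mul m huG hhG] at hfix'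
  have hu' := sigGL_mem_pos m u hu
  have hh' := sigGL_mem_diag m h hh
  have e1 : u⁻¹ * sigGL m u = h * (sigGL m h)⁻¹ := by
    have : sigGL m u = u * h * (sigGL m h)⁻¹ := by
      rw [← hfix']; group
    rw [this]; group
  have h4 : u⁻¹ * sigGL m u ∈ chevF4.posUnipotent K ⊓ chevF4.diagonalSubgroup K :=
    Subgroup.mem_inf.2 ⟨mul_mem (inv_mem hu) hu', by
      rw [e1]
      exact mul_mem hh (inv_mem hh')⟩
  rw [pos_inf_diagonal chevF4 hF4, Subgroup.mem_bot] at h4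
  have hu2 : sigGL m u = u := by
    have := congrArg (fun y => u * y) h4
    simpa using this
  have hh2 : sigGL m h = h := by
    rw [hu2] at hfix'
    exact mul_left_cancel hfix'
  exact ⟨u, Subgroup.mem_inf.2 ⟨hu, huG, hu2⟩, h, Subgroup.mem_inf.2 ⟨hh, hhG, hh2⟩, e.symm⟩

/-! ### The cells -/

/-- a fixed point of `σ` lies in the cell of a word commuting with `ρ` -/
theorem cell_stable (g : GL chevF4.Idx K) (hg : g ∈ fixG m) :
    ∃ w, StableW chevF4 gF4 w ∧ ∃ b ∈ chevF4.borelSubgroup K, ∃ v ∈ unegSub chevF4 K w,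
      g = b * wGL chevF4 hF4 w * v := by
  obtain ⟨hgG, hfix⟩ := hg
  obtain ⟨w, hw, b, hb, v, hv, e⟩ := bruhat_exists_word chevF4 hF4 g hgG
  have hw' : Wd chevF4 (w.map (rhoS gF4)) := wd_map_rho chevF4 gF4 sigmaOK_gF4 w hw
  have hbG := borel_le_group chevF4 hF4 hb
  have hvU := unegSub_le_pos w hw hv
  have hvG := pos_le_group chevF4 hF4 hvU
  have hN := wGL_mem (F := K) chevF4 hF4 w hw
  have hN' := wGL_mem (F := K) chevF4 hF4 _ hw'
  have hNG := monomial_le_group chevF4 hF4 hN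
  have e2 : g = sigGL m b * wGL chevF4 hF4 (w.map (rhoS gF4)) * sigGL m v := by
    rw [← sigGL_wGL m w hw, ← sigGL_mul m hbG hNG, ← sigGL_mul m (mul_mem hbG hNG) hvG, ← e, hfix]
  have huniq := bruhat_unique chevF4 hF4 _ _ _ _ _ _ hb (sigGL_mem_borel m b hb) hN hN'
    (unegSub_le_unegOf chevF4 hF4 _ hw hv)
    (unegSub_le_unegOf chevF4 hF4 _ hw' (sigGL_mem_unegSub m w hw v hv)) (e.symm.trans e2)
  have hH : (wGL chevF4 hF4 (w.map (rhoS gF4)) * (wGL chevF4 hF4 w)⁻¹ : GL chevF4.Idx K)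
      ∈ chevF4.diagonalSubgroup K := by
    have h1 := (conj_monomial_diag_mem chevF4 hF4 _ hN _ huniq.1).1
    have e1 : (wGL chevF4 hF4 (w.map (rhoS gF4)) * (wGL chevF4 hF4 w)⁻¹ : GL chevF4.Idx K)
        = wGL chevF4 hF4 w * ((wGL chevF4 hF4 w)⁻¹ * wGL chevF4 hF4 (w.map (rhoS gF4)))
          * (wGL chevF4 hF4 w)⁻¹ := by group
    rw [e1]
    exact h1
  have hact := (hrel_iff_act_eq chevF4 hF4 _ _ hw' hw).1 hH
  refine ⟨w, ⟨hw, fun r hr => ?_⟩, b, hb, v, hv, e⟩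
  rw [← hact _ (checkGraphPerm_root chevF4 gF4 chkPerm_gF4 r hr).1,
    wAct_map_rho chevF4 hF4 gF4 sigmaOK_gF4 w hw r hr]

/-- the normal form of the fixed points of `σ` -/
theorem cell_orbits (hn : ∀ J ∈ orbsF4, wGL chevF4 hF4 J ∈ fixG (K := K) m)
    (g : GL chevF4.Idx K) (hg : g ∈ fixG m) :
    ∃ Js : List (List ℕ), (∀ J ∈ Js, J ∈ orbsF4) ∧
      ∃ b ∈ chevF4.borelSubgroup K ⊓ fixG m,
      ∃ v ∈ unegSub chevF4 K Js.flatten ⊓ fixG m,
      g = b * wGL chevF4 hF4 Js.flatten * v := by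
  obtain ⟨w, hw, b, hb, v, hv, e⟩ := cell_stable m g hg
  obtain ⟨hgG, hfix⟩ := hg
  obtain ⟨Js, hJs, hact⟩ := stable_genX chevF4 hF4 gF4 sigmaOK_gF4 orbsF4 orbsX_F4 w hw
  have hst := stable_flattenX chevF4 hF4 gF4 orbsF4 orbsX_F4 Js hJs
  have hH := hrel_of_act_eq (F := K) chevF4 hF4 _ _ hw.1 hst.1 hact
  have hv' : v ∈ unegSub chevF4 K Js.flatten := by
    rw [← unegSub_congr chevF4 w _ hact]
    exact hv
  have hnfix := wGL_flatten_mem chevF4 hF4 orbsF4 _ hn Js hJs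
  set n : GL chevF4.Idx K := wGL chevF4 hF4 Js.flatten with hndef
  set b' := b * (wGL chevF4 hF4 w * n⁻¹) with hb'def
  have hb' : b' ∈ chevF4.borelSubgroup K := mul_mem hb (diagonal_le_borel chevF4 hH)
  have hb'G := borel_le_group chevF4 hF4 hb'
  have hvU := unegSub_le_pos _ hst.1 hv'
  have hvG := pos_le_group chevF4 hF4 hvU
  have e1 : g = b' * n * v := by
    rw [e, hb'def]; group
  have hwm := wd_map_rho chevF4 gF4 sigmaOK_gF4 _ hst.1
  have hv2 : sigGL m v ∈ unegSub chevF4 K Js.flatten := by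
    rw [← unegSub_congr chevF4 (Js.flatten.map (rhoS gF4)) _
      (stable_map_act chevF4 hF4 gF4 chkPerm_gF4 sigmaOK_gF4 _ hst)]
    exact sigGL_mem_unegSub m _ hst.1 v hv'
  have e2 : g = sigGL m b' * n * sigGL m v := by
    have h1 : sigGL m n = n := hnfix.2
    have h2 := hfix
    rw [e1, sigGL_mul m (mul_mem hb'G hnfix.1) hvG, sigGL_mul m hb'G hnfix.1, h1] at h2
    rw [← e1] at h2
    exact h2.symm
  have hN := wGL_mem (F := K) chevF4 hF4 _ hst.1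
  have huniq := bruhat_unique chevF4 hF4 _ _ _ _ _ _ hb'
    (sigGL_mem_borel m b' hb') hN hN
    (unegSub_le_unegOf chevF4 hF4 _ hst.1 hv') (unegSub_le_unegOf chevF4 hF4 _ hst.1 hv2)
    (e1.symm.trans e2)
  obtain ⟨h1, h2⟩ := huniq.2 rfl
  exact ⟨Js, hJs, b', Subgroup.mem_inf.2 ⟨hb', hb'G, h1.symm⟩, v,
    Subgroup.mem_inf.2 ⟨hv', hvG, h2.symm⟩, e1⟩

end Cfsg.Agent.Lib.Helper5.F4T
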