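import Mathlib
import Cfsg.Prelude.Def_ChevStructure
import Cfsg.Prelude.Def_LieTwisted
import Cfsg.Agent.Lib.Helper5.F4T.Cell
import Cfsg.Agent.Lib.Helper5.ChevOrdProd

set_option autoImplicit false

/-!
The fixed points of `σ` in the unipotent subgroups `⟨X_r : r ∈ S⟩` of `F₄(K)`, `S` a union of
classes of positive roots.
-/

namespace Cfsg.Agent.Lib.Helper5.F4T

open Cfsg Cfsg.Lie Cfsg.Agent.Lib.Helper5.ChevSym Cfsg.Agent.Lib.Helper5.ChevSymP
  Cfsg.Agent.Lib.Helper5.ChevStruct Cfsg.Agent.Lib.Helper5.Ree Cfsg.Agent.Lib.Helper5.TwX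

/-! ### Tables -/

/-- the positive roots, class by class -/
def Lpos : List ℕ := [33, 24, 34, 26, 36, 42, 38, 43, 29, 41, 44, 47, 39, 45, 35, 31, 40, 46, 37, 32,
  27, 25, 28, 30]

set_option maxRecDepth 1000000 in
theorem Lpos_good : checkGoodList chevF4 Lpos = true := by decide +kernel

theorem Lpos_nodup : Lpos.Nodup := by decide

theorem Lpos_mem : ∀ r < 48, (r ∈ Lpos ↔ 24 ≤ r) := by decide

theorem Lpos_lt : ∀ r ∈ Lpos, r < 48 := by decide

theorem Lpos_pos (r : ℕ) : r ∈ Lpos ↔ chevF4.IsPosRoot r := by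
  rw [isPos_iff]
  constructor
  · intro h
    have h1 := Lpos_lt r h
    exact ⟨(Lpos_mem r h1).1 h, h1⟩
  · rintro ⟨h1, h2⟩
    exact (Lpos_mem r h2).2 h1

theorem Lpos_len : Lpos.length = chevF4.nroots / 2 := rfl

/-- the number of the class of a positive root -/
def blk (r : ℕ) : ℕ := [8, 8, 8, 8, 8, 8, 8, 8, 8, 8, 8, 8, 8, 8, 8, 8, 8, 8, 8, 8, 8, 8, 8, 8, 0, 7,
  1, 7, 7, 3, 7, 5, 6, 0, 1, 5, 1, 6, 2, 4, 5, 3, 1, 2, 3, 4, 5, 3].getD r 8

/-- the root `a` of a class of type `B₂` -/
def aOf (r : ℕ) : ℕ := [0, 0, 0, 0, 0, 0, 0, 0, 0, 0, 0, 0, 0, 0, 0, 0, 0, 0, 0, 0, 0, 0, 0, 0, 0, 27,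
  34, 27, 27, 29, 27, 35, 0, 0, 34, 35, 34, 0, 0, 0, 35, 29, 34, 0, 29, 0, 35, 29].getD r 0

/-- the root `b` of a class of type `B₂` -/
def bOf (r : ℕ) : ℕ := [0, 0, 0, 0, 0, 0, 0, 0, 0, 0, 0, 0, 0, 0, 0, 0, 0, 0, 0, 0, 0, 0, 0, 0, 0, 25,
  26, 25, 25, 41, 25, 31, 0, 0, 26, 31, 26, 0, 0, 0, 31, 41, 26, 0, 41, 0, 31, 41].getD r 0

/-- the roots `a + b` -/
def isAB (r : ℕ) : Bool := memNat r [28, 36, 40, 44]

/-- the roots `2a + b` -/
def isAAB (r : ℕ) : Bool := memNat r [30, 42, 46, 47]

theorem tbl_all : ∀ r ∈ Lpos, piR r ∈ Lpos ∧ blk (piR r) = blk r ∧ piR (piR r) = r ∧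
    (lam r = 1 ∨ lam r = 2) ∧ (lam r = 2 → lam (piR r) = 1) ∧ (lam r = 1 → lam (piR r) = 2) ∧
    (lam r = 1 → isAB r = false) ∧ (lam r = 2 → isAAB r = false) ∧
    (isAB r = true → isAAB (piR r) = true) ∧ (isAAB r = true → isAB (piR r) = true) ∧
    (isAB r = false → isAAB (piR r) = false) ∧ (isAAB r = false → isAB (piR r) = false) := by
  decide

theorem tbl_ab : ∀ r ∈ Lpos, (isAB r = true ∨ isAAB r = true) →
    aOf r ∈ Lpos ∧ bOf r ∈ Lpos ∧ blk (aOf r) = blk r ∧ blk (bOf r) = blk r ∧
    lam (aOf r) = 2 ∧ isAB (aOf r) = false ∧ isAAB (aOf r) = false ∧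
    lam (bOf r) = 1 ∧ isAAB (bOf r) = false ∧ isAB (bOf r) = false ∧
    piR (aOf r) = bOf r ∧ piR (bOf r) = aOf r ∧
    aOf (piR r) = aOf r ∧ bOf (piR r) = bOf r := by decide

variable {K : Type*} [Field K]

/-! ### Products along a sublist -/

theorem xGL_zero'' (r : ℕ) : xGL chevF4 hF4 r (0 : K) = 1 := by
  apply Units.ext
  rw [xGL_val, x_at_zero]
  rfl

/-- the factors with parameter zero may be left out -/
theorem prodL_filter (L : List ℕ) (p : ℕ → Bool) (t : ℕ → K) (h : ∀ r ∈ L, p r = false → t r = 0) :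
    prodL chevF4 hF4 L t = prodL chevF4 hF4 (L.filter p) t := by
  induction L with
  | nil => rfl
  | cons r L ih =>
    have ih' := ih (fun s hs => h s (List.mem_cons_of_mem _ hs))
    by_cases hr : p r = true
    · rw [List.filter_cons_of_pos hr, prodL_cons, prodL_cons, ih']
    · rw [List.filter_cons_of_neg hr, prodL_cons, ih']
      rw [Bool.not_eq_true] at hr
      rw [h r (List.mem_cons_self ..) hr, xGL_zero'', one_mul]

variable [CharP K 2] (m : ℕ)

/-! ### `σ` on the products over the positive roots -/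

/-- the parameters of the image under `σ` -/
noncomputable def sigT (t : ℕ → K) (r : ℕ) : K :=
  if isAB r = true then ps m (t (aOf r)) * ph m (t (bOf r)) + ph m (t (piR r))
  else if isAAB r = true then ps m (t (aOf r)) * (ph m (t (bOf r))) ^ 2 + ps m (t (piR r))
  else if lam r = 2 then ph m (t (piR r)) else ps m (t (piR r))

/-- the words of the classes -/
def blocksW (t : ℕ → K) : List (List (ℕ × K)) :=
  [[(33, t 33), (24, t 24)], [(34, t 34), (26, t 26), (36, t 36), (42, t 42)],
   [(38, t 38), (43, t 43)], [(29, t 29), (41, t 41), (44, t 44), (47, t 47)],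
   [(39, t 39), (45, t 45)], [(35, t 35), (31, t 31), (40, t 40), (46, t 46)],
   [(37, t 37), (32, t 32)], [(27, t 27), (25, t 25), (28, t 28), (30, t 30)]]

omit [CharP K 2] in
theorem prodL_blocks (t : ℕ → K) :
    prodL chevF4 hF4 Lpos t = ((blocksW t).map (wordGL chevF4 hF4)).prod := by
  simp only [prodL, Lpos, blocksW, List.map_cons, List.map_nil, wordGL, List.prod_cons,
    List.prod_nil, mul_one, mul_assoc]

theorem sigGL_prod_words (ws : List (List (ℕ × K))) :
    sigGL m ((ws.map (wordGL chevF4 hF4)).prod)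
      = (ws.map fun w => sigGL m (wordGL chevF4 hF4 w)).prod := by
  induction ws with
  | nil => simp [sigGL_one]
  | cons w ws ih =>
    rw [List.map_cons, List.prod_cons, List.map_cons, List.prod_cons, ← ih]
    apply sigGL_mul m (wordGL_mem_group _ _ _)
    apply Subgroup.list_prod_mem
    intro g hg
    rw [List.mem_map] at hg
    obtain ⟨w', -, rfl⟩ := hg
    exact wordGL_mem_group _ _ _

/-- `σ` on a product over the positive roots -/
theorem sigGL_prodL (t : ℕ → K) :
    sigGL m (prodL chevF4 hF4 Lpos t) = prodL chevF4 hF4 Lpos (sigT m t) := by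
  rw [prodL_blocks, prodL_blocks, sigGL_prod_words]
  simp only [blocksW, List.map_cons, List.map_nil]
  rw [sigGL_pair m (33, 24) (by decide), sigGL_pair m (38, 43) (by decide),
    sigGL_pair m (39, 45) (by decide), sigGL_pair m (37, 32) (by decide),
    sigGL_quad m ⟨34, 26, 36, 42⟩ (by decide), sigGL_quad m ⟨29, 41, 44, 47⟩ (by decide),
    sigGL_quad m ⟨35, 31, 40, 46⟩ (by decide), sigGL_quad m ⟨27, 25, 28, 30⟩ (by decide)]
  rfl

/-- the fixed points of `σ` among the products over the positive roots -/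
theorem prodL_fixed_iff [Fintype K] (t : ℕ → K) :
    prodL chevF4 hF4 Lpos t ∈ fixG m ↔ ∀ r ∈ Lpos, sigT m t r = t r := by
  constructor
  · rintro ⟨-, h⟩
    rw [sigGL_prodL] at h
    exact prodL_unique chevF4 hF4 Lpos Lpos_good Lpos_nodup Lpos_pos Lpos_len _ _ h
  · intro h
    refine ⟨pos_le_group chevF4 hF4 (prodL_mem_pos chevF4 hF4 Lpos Lpos_pos _), ?_⟩
    rw [sigGL_prodL]
    exact prodL_congr chevF4 hF4 Lpos _ _ h

/-! ### The solutions -/

/-- the parameters of a fixed point, from those at the long roots -/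
noncomputable def ext (s : ℕ → K) (r : ℕ) : K :=
  if lam r = 1 then s r
  else if isAB r = true then s (bOf r) * ph m (s (bOf r)) + ph m (s (piR r))
  else ph m (s (piR r))

theorem two_zero : (2 : K) = 0 := by
  have := two_eq_zero (K := K)
  exact_mod_cast this

theorem sigT_ext (hq : ∀ x : K, x ^ 2 ^ (2 * m + 1) = x) (s : ℕ → K) (r : ℕ) (hr : r ∈ Lpos) :
    sigT m (ext m s) r = ext m s r := by
  obtain ⟨h1, -, h3, h4, h5, h6, h7, h8, h9, h10, h11, h12⟩ := tbl_all r hr
  unfold sigT
  by_cases hab : isAB r = true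
  · obtain ⟨ha, hb, -, -, a1, a2, -, b1, -, -, p1, -, -, -⟩ := tbl_ab r hr (Or.inl hab)
    have hl : lam r = 2 := by
      rcases h4 with h | h
      · rw [h7 h] at hab; exact absurd hab (by decide)
      · exact h
    have hl' : lam (piR r) = 1 := h5 hl
    rw [if_pos hab]
    have e1 : ext m s (aOf r) = ph m (s (bOf r)) := by
      unfold ext
      rw [if_neg (by rw [a1]; decide), if_neg (by rw [a2]; decide), p1]
    have e2 : ext m s (bOf r) = s (bOf r) := by
      unfold ext
      rw [if_pos b1]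
    have e3 : ext m s (piR r) = s (piR r) := by
      unfold ext
      rw [if_pos hl']
    have e4 : ext m s r = s (bOf r) * ph m (s (bOf r)) + ph m (s (piR r)) := by
      unfold ext
      rw [if_neg (by rw [hl]; decide), if_pos hab]
    rw [e1, e2, e3, e4, ps_ph m hq]
  · rw [if_neg hab]
    rw [Bool.not_eq_true] at hab
    by_cases haab : isAAB r = true
    · obtain ⟨ha, hb, -, -, a1, a2, -, b1, -, -, p1, -, q1, q2⟩ := tbl_ab r hr (Or.inr haab)
      have hl : lam r = 1 := by
        rcases h4 with h | h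
        · exact h
        · rw [h8 h] at haab; exact absurd haab (by decide)
      have hl' : lam (piR r) = 2 := h6 hl
      rw [if_pos haab]
      have e1 : ext m s (aOf r) = ph m (s (bOf r)) := by
        unfold ext
        rw [if_neg (by rw [a1]; decide), if_neg (by rw [a2]; decide), p1]
      have e2 : ext m s (bOf r) = s (bOf r) := by
        unfold ext
        rw [if_pos b1]
      have e3 : ext m s (piR r) = s (bOf r) * ph m (s (bOf r)) + ph m (s r) := by
        unfold ext
        rw [if_neg (by rw [hl']; decide), if_pos (h10 haab), q2, h3]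
      have e4 : ext m s r = s r := by
        unfold ext
        rw [if_pos hl]
      rw [e1, e2, e3, e4, map_add, map_mul, ps_ph m hq, ps_ph m hq, ps_eq m (s (bOf r))]
      linear_combination (s (bOf r) * ph m (s (bOf r)) ^ 2) * (two_zero (K := K))
    · rw [if_neg haab]
      rw [Bool.not_eq_true] at haab
      by_cases hl : lam r = 2
      · rw [if_pos hl]
        have hl' : lam (piR r) = 1 := h5 hl
        have e3 : ext m s (piR r) = s (piR r) := by
          unfold ext
          rw [if_pos hl']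
        have e4 : ext m s r = ph m (s (piR r)) := by
          unfold ext
          rw [if_neg (by rw [hl]; decide), if_neg (by rw [hab]; decide)]
        rw [e3, e4]
      · rw [if_neg hl]
        have hl1 : lam r = 1 := by
          rcases h4 with h | h
          · exact h
          · exact absurd h hl
        have hl' : lam (piR r) = 2 := h6 hl1
        have e3 : ext m s (piR r) = ph m (s r) := by
          unfold ext
          rw [if_neg (by rw [hl']; decide), if_neg (by rw [h12 haab]; decide), h3]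
        have e4 : ext m s r = s r := by
          unfold ext
          rw [if_pos hl1]
        rw [e3, e4, ps_ph m hq]

theorem eq_ext_of_fixed (hq : ∀ x : K, x ^ 2 ^ (2 * m + 1) = x) (t : ℕ → K)
    (h : ∀ r ∈ Lpos, sigT m t r = t r) (r : ℕ) (hr : r ∈ Lpos) : t r = ext m t r := by
  obtain ⟨h1, -, h3, h4, h5, h6, h7, h8, h9, h10, h11, h12⟩ := tbl_all r hr
  unfold ext
  by_cases hl : lam r = 1
  · rw [if_pos hl]
  · rw [if_neg hl]
    have hl2 : lam r = 2 := by
      rcases h4 with h | h
      · exact absurd h hl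
      · exact h
    have haab : isAAB r = false := h8 hl2
    by_cases hab : isAB r = true
    · rw [if_pos hab]
      obtain ⟨ha, hb, -, -, a1, a2, a3, b1, -, -, p1, -, -, -⟩ := tbl_ab r hr (Or.inl hab)
      have e1 := h r hr
      unfold sigT at e1
      rw [if_pos hab] at e1
      have e2 := h (aOf r) ha
      unfold sigT at e2
      rw [if_neg (by rw [a2]; decide), if_neg (by rw [a3]; decide), if_pos a1, p1] at e2
      rw [← e1, ← e2, ps_ph m hq]
    · rw [if_neg hab]
      have e1 := h r hr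
      unfold sigT at e1
      rw [if_neg hab, if_neg (by rw [haab]; decide), if_pos hl2] at e1
      exact e1.symm

/-- `ext` depends only on the values at the long roots -/
theorem ext_congr (s s' : ℕ → K) (h : ∀ r ∈ Lpos, lam r = 1 → s r = s' r) (r : ℕ)
    (hr : r ∈ Lpos) : ext m s r = ext m s' r := by
  obtain ⟨h1, -, h3, h4, h5, h6, h7, h8, h9, h10, h11, h12⟩ := tbl_all r hr
  unfold ext
  by_cases hl : lam r = 1
  · rw [if_pos hl, if_pos hl, h r hr hl]
  · rw [if_neg hl, if_neg hl]
    have hl2 : lam r = 2 := by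
      rcases h4 with h' | h'
      · exact absurd h' hl
      · exact h'
    have e1 : s (piR r) = s' (piR r) := h _ h1 (h5 hl2)
    by_cases hab : isAB r = true
    · rw [if_pos hab, if_pos hab]
      obtain ⟨ha, hb, -, -, a1, a2, a3, b1, -, -, p1, -, -, -⟩ := tbl_ab r hr (Or.inl hab)
      rw [h _ hb b1, e1]
    · rw [if_neg hab, if_neg hab, e1]

/-- `ext s` vanishes where `s` vanishes on the class -/
theorem ext_eq_zero (s : ℕ → K) (r : ℕ) (hr : r ∈ Lpos)
    (h : ∀ x ∈ Lpos, blk x = blk r → s x = 0) : ext m s r = 0 := by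
  obtain ⟨h1, h2, h3, h4, h5, h6, h7, h8, h9, h10, h11, h12⟩ := tbl_all r hr
  unfold ext
  by_cases hl : lam r = 1
  · rw [if_pos hl, h r hr rfl]
  · rw [if_neg hl]
    by_cases hab : isAB r = true
    · rw [if_pos hab]
      obtain ⟨ha, hb, -, b2, -⟩ := tbl_ab r hr (Or.inl hab)
      rw [h _ hb b2, h _ h1 h2, map_zero, zero_mul, add_zero]
    · rw [if_neg hab, h _ h1 h2, map_zero]

end Cfsg.Agent.Lib.Helper5.F4T
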