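import Mathlib
import Cfsg.Prelude.Def_ChevStructure
import Cfsg.Prelude.Def_LieTwisted
import Cfsg.Agent.Lib.Helper5.F4T.UFix

set_option autoImplicit false

/-!
The fixed points of `σ` in the groups `U_w⁻`, `w` one of the sixteen elements of the Weyl group
commuting with the symmetry: parametrisation and number.
-/

namespace Cfsg.Agent.Lib.Helper5.F4T

open Cfsg Cfsg.Lie Cfsg.Agent.Lib.Helper5.ChevSym Cfsg.Agent.Lib.Helper5.ChevSymP
  Cfsg.Agent.Lib.Helper5.ChevStruct Cfsg.Agent.Lib.Helper5.Ree Cfsg.Agent.Lib.Helper5.TwX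

/-- the positive roots in the classes with numbers in `T` -/
def inT (T : List ℕ) (r : ℕ) : Bool := memNat (blk r) T

/-- their list -/
def LS (T : List ℕ) : List ℕ := Lpos.filter (inT T)

/-- the long ones among them -/
def longS (T : List ℕ) : List ℕ := (LS T).filter fun r => Nat.beq (lam r) 1

theorem LS_nodup (T : List ℕ) : (LS T).Nodup := Lpos_nodup.filter _

theorem longS_nodup (T : List ℕ) : (longS T).Nodup := (LS_nodup T).filter _

theorem mem_LS (T : List ℕ) (r : ℕ) : r ∈ LS T ↔ r ∈ Lpos ∧ inT T r = true := by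
  unfold LS
  rw [List.mem_filter]

theorem mem_longS (T : List ℕ) (r : ℕ) : r ∈ longS T ↔ r ∈ Lpos ∧ inT T r = true ∧ lam r = 1 := by
  unfold longS
  rw [List.mem_filter, mem_LS, Nat.beq_eq, and_assoc]

/-- functions on `ℕ` vanishing outside a list -/
theorem card_supported {F : Type*} [Fintype F] [Zero F] (L : List ℕ) (hnd : L.Nodup) :
    Nat.card {s : ℕ → F // ∀ r, r ∉ L → s r = 0} = Fintype.card F ^ L.length := by
  classical
  let e : {s : ℕ → F // ∀ r, r ∉ L → s r = 0} ≃ (Fin L.length → F) :=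
    { toFun := fun s i => s.1 (L.get i)
      invFun := fun a => ⟨fun r => if h : r ∈ L then a ⟨L.idxOf r, List.idxOf_lt_length_iff.2 h⟩
        else 0, fun r hr => by simp [hr]⟩
      left_inv := by
        rintro ⟨s, hs⟩
        apply Subtype.ext
        funext r
        by_cases h : r ∈ L
        · simp only [dif_pos h]
          congr 1
          exact List.getElem_idxOf _
        · simp only [dif_neg h]
          exact (hs r h).symm
      right_inv := by
        intro a
        funext i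
        have hi : L.get i ∈ L := List.get_mem L i
        simp only [dif_pos hi]
        congr 1
        apply Fin.ext
        exact hnd.idxOf_getElem i.val i.isLt }
  rw [Nat.card_congr e, Nat.card_eq_fintype_card, Fintype.card_fun, Fintype.card_fin]

variable {K : Type*} [Field K] [CharP K 2] (m : ℕ)

/-- the fixed points of `σ` in `⟨X_r : r ∈ S⟩`, `S` the union of the classes in `T` -/
theorem run_fix_iff [Fintype K] (hq : ∀ x : K, x ^ 2 ^ (2 * m + 1) = x) (T : List ℕ)
    (hgood : checkGoodList chevF4 (LS T) = true) (g : GL chevF4.Idx K) :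
    g ∈ rootSetSub chevF4 K {r | r ∈ LS T} ⊓ fixG m ↔
      ∃ s : ℕ → K, (∀ r, r ∉ longS T → s r = 0) ∧ g = prodL chevF4 hF4 Lpos (ext m s) := by
  constructor
  · rintro ⟨hg1, hg2⟩
    obtain ⟨t', ht'⟩ := exists_prodL chevF4 hF4 (LS T) hgood (LS_nodup T) g hg1
    set t : ℕ → K := fun r => if inT T r = true then t' r else 0 with ht
    have e1 : g = prodL chevF4 hF4 Lpos t := by
      rw [prodL_filter Lpos (inT T) t (by
        intro r _ hr
        simp only [ht, hr]
        rfl), ht']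
      apply prodL_congr
      intro r hr
      have := ((mem_LS T r).1 hr).2
      simp only [ht, this, if_true]
    rw [e1] at hg2
    have hfix := (prodL_fixed_iff m t).1 hg2
    have hext := eq_ext_of_fixed m hq t hfix
    set s : ℕ → K := fun r => if r ∈ longS T then t r else 0 with hs
    refine ⟨s, fun r hr => by simp only [hs, if_neg hr], ?_⟩
    rw [e1]
    apply prodL_congr
    intro r hr
    rw [hext r hr]
    refine ext_congr m t s (fun x hx hlx => ?_) r hr
    by_cases hxT : x ∈ longS T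
    · simp only [hs, if_pos hxT]
    · simp only [hs, if_neg hxT]
      have : ¬ inT T x = true := fun h => hxT ((mem_longS T x).2 ⟨hx, h, hlx⟩)
      simp only [ht, if_neg this]
  · rintro ⟨s, hs, rfl⟩
    refine Subgroup.mem_inf.2 ⟨?_, (prodL_fixed_iff m _).2 (sigT_ext m hq s)⟩
    rw [prodL_filter Lpos (inT T) (ext m s) (by
      intro r hr hrT
      apply ext_eq_zero m s r hr
      intro x hx hxb
      apply hs
      intro hxT
      have h1 := ((mem_longS T x).1 hxT).2.1
      unfold inT at h1 hrT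
      rw [hxb, hrT] at h1
      exact Bool.noConfusion h1)]
    exact prodL_mem_rootSetSub chevF4 hF4 _ _ _ (fun r hr => hr)

theorem ext_long (s : ℕ → K) (r : ℕ) (h : lam r = 1) : ext m s r = s r := by
  unfold ext
  rw [if_pos h]

/-- the number of fixed points of `σ` in `⟨X_r : r ∈ S⟩` -/
theorem card_run [Fintype K] (hq : ∀ x : K, x ^ 2 ^ (2 * m + 1) = x) (T : List ℕ)
    (hgood : checkGoodList chevF4 (LS T) = true) :
    Nat.card ↥(rootSetSub chevF4 K {r | r ∈ LS T} ⊓ fixG m)
      = Fintype.card K ^ (longS T).length := by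
  rw [← card_supported (F := K) (longS T) (longS_nodup T)]
  symm
  let f : {s : ℕ → K // ∀ r, r ∉ longS T → s r = 0} →
      ↥(rootSetSub chevF4 K {r | r ∈ LS T} ⊓ fixG m) := fun s =>
    ⟨prodL chevF4 hF4 Lpos (ext m s.1), (run_fix_iff m hq T hgood _).2 ⟨s.1, s.2, rfl⟩⟩
  have hbij : Function.Bijective f := by
    constructor
    · rintro ⟨s, hs⟩ ⟨s', hs'⟩ h
      have h' : prodL chevF4 hF4 Lpos (ext m s) = prodL chevF4 hF4 Lpos (ext m s') :=
        congrArg Subtype.val h
      have key := prodL_unique chevF4 hF4 Lpos Lpos_good Lpos_nodup Lpos_pos Lpos_len _ _ h'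
      apply Subtype.ext
      funext r
      by_cases hr : r ∈ longS T
      · obtain ⟨h1, -, h3⟩ := (mem_longS T r).1 hr
        have := key r h1
        rw [ext_long m s r h3, ext_long m s' r h3] at this
        exact this
      · show s r = s' r
        rw [hs r hr, hs' r hr]
    · rintro ⟨g, hg⟩
      obtain ⟨s, hs, rfl⟩ := (run_fix_iff m hq T hgood g).1 hg
      exact ⟨⟨s, hs⟩, rfl⟩
  exact Nat.card_congr (Equiv.ofBijective f hbij)

/-! ### The sixteen elements of the Weyl group -/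

/-- the sixteen elements, as products of the `w_J`, with the classes of the roots that they make
negative -/
def canon : List (List (List ℕ) × List ℕ) :=
  [([], []),
   ([[0, 3]], [0]),
   ([[1, 2, 1, 2]], [7]),
   ([[0, 3], [1, 2, 1, 2]], [6, 7]),
   ([[1, 2, 1, 2], [0, 3]], [0, 1]),
   ([[0, 3], [1, 2, 1, 2], [0, 3]], [0, 1, 2]),
   ([[1, 2, 1, 2], [0, 3], [1, 2, 1, 2]], [5, 6, 7]),
   ([[0, 3], [1, 2, 1, 2], [0, 3], [1, 2, 1, 2]], [4, 5, 6, 7]),
   ([[1, 2, 1, 2], [0, 3], [1, 2, 1, 2], [0, 3]], [0, 1, 2, 3]),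
   ([[0, 3], [1, 2, 1, 2], [0, 3], [1, 2, 1, 2], [0, 3]], [0, 1, 2, 3, 4]),
   ([[1, 2, 1, 2], [0, 3], [1, 2, 1, 2], [0, 3], [1, 2, 1, 2]], [3, 4, 5, 6, 7]),
   ([[0, 3], [1, 2, 1, 2], [0, 3], [1, 2, 1, 2], [0, 3], [1, 2, 1, 2]], [2, 3, 4, 5, 6, 7]),
   ([[1, 2, 1, 2], [0, 3], [1, 2, 1, 2], [0, 3], [1, 2, 1, 2], [0, 3]], [0, 1, 2, 3, 4, 5]),
   ([[0, 3], [1, 2, 1, 2], [0, 3], [1, 2, 1, 2], [0, 3], [1, 2, 1, 2], [0, 3]],
     [0, 1, 2, 3, 4, 5, 6]),
   ([[1, 2, 1, 2], [0, 3], [1, 2, 1, 2], [0, 3], [1, 2, 1, 2], [0, 3], [1, 2, 1, 2]],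
     [1, 2, 3, 4, 5, 6, 7]),
   ([[0, 3], [1, 2, 1, 2], [0, 3], [1, 2, 1, 2], [0, 3], [1, 2, 1, 2], [0, 3], [1, 2, 1, 2]],
     [0, 1, 2, 3, 4, 5, 6, 7])]

set_option maxRecDepth 1000000 in
theorem canon_good : ∀ p ∈ canon, checkGoodList chevF4 (LS p.2) = true := by decide +kernel

set_option maxRecDepth 1000000 in
theorem canon_neg : ∀ p ∈ canon, ∀ r < 48,
    ((Nat.ble 24 r && Nat.blt (wAct chevF4 p.1.flatten r) 24) = inT p.2 r) := by decide +kernel

theorem canon_orbs : ∀ p ∈ canon, ∀ J ∈ p.1, J ∈ orbsF4 := by decide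

omit [CharP K 2] in
/-- `U_w⁻` for the sixteen elements -/
theorem unegSub_canon (p : List (List ℕ) × List ℕ) (hp : p ∈ canon) :
    unegSub chevF4 K p.1.flatten = rootSetSub chevF4 K {r | r ∈ LS p.2} := by
  unfold unegSub
  congr 1
  ext r
  simp only [Set.mem_ofPred_eq]
  rw [mem_LS, Lpos_pos]
  constructor
  · rintro ⟨h1, h2⟩
    refine ⟨h1, ?_⟩
    have hr : r < 48 := h1.1
    rw [← canon_neg p hp r hr]
    rw [isPos_iff] at h1 h2
    have hlt : wAct chevF4 p.1.flatten r < 48 :=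
      wAct_lt chevF4 hF4 _ (stable_flattenX chevF4 hF4 gF4 orbsF4 orbsX_F4 _ (canon_orbs p hp)).1 r hr
    simp only [Bool.and_eq_true, Nat.ble_eq, Nat.blt_eq]
    omega
  · rintro ⟨h1, h2⟩
    refine ⟨h1, ?_⟩
    have hr : r < 48 := h1.1
    rw [← canon_neg p hp r hr] at h2
    simp only [Bool.and_eq_true, Nat.ble_eq, Nat.blt_eq] at h2
    rw [isPos_iff]
    omega

/-- the number of fixed points of `σ` in `U_w⁻` -/
theorem card_uneg_canon [Fintype K] (hq : ∀ x : K, x ^ 2 ^ (2 * m + 1) = x)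
    (p : List (List ℕ) × List ℕ) (hp : p ∈ canon) :
    Nat.card ↥(unegSub chevF4 K p.1.flatten ⊓ fixG m) = Fintype.card K ^ (longS p.2).length := by
  rw [unegSub_canon p hp]
  exact card_run m hq p.2 (canon_good p hp)

end Cfsg.Agent.Lib.Helper5.F4T
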