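import Mathlib
import Cfsg.Prelude.Def_ChevStructure
import Cfsg.Prelude.Def_LieTwisted
import Cfsg.Agent.Lib.Helper5.F4T.URun
import Cfsg.Agent.Lib.Helper5.ChevTorusCard
import Cfsg.Agent.Lib.Helper5.ChevTorusKer
import Cfsg.Agent.Lib.Helper5.ChevTorusAct
import Cfsg.Agent.Lib.Helper5.ChevTwistTorus

set_option autoImplicit false

/-!
The fixed points of `σ` in the torus `H` of `F₄(K)`: the elements
`h(y, z) = h_{p₁}(z^θ) h_{p₂}(y^θ) h_{p₃}(y) h_{p₄}(z)`.
-/

namespace Cfsg.Agent.Lib.Helper5.F4T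

open Cfsg Cfsg.Lie Cfsg.Agent.Lib.Helper5.ChevSym Cfsg.Agent.Lib.Helper5.ChevSymP
  Cfsg.Agent.Lib.Helper5.ChevStruct Cfsg.Agent.Lib.Helper5.Ree Cfsg.Agent.Lib.Helper5.TwX
  Cfsg.Agent.Lib.Helper5.MatPow

variable {K : Type*} [Field K]

theorem torusMat_congr4 (c c' : ℕ → K) (h : ∀ i < 4, c i = c' i) :
    torusMat chevF4 c = torusMat chevF4 c' := by
  unfold torusMat
  congr 1
  funext j
  rcases j with j | s
  · rfl
  · simp only [Sum.elim_inr]
    exact chi_congr chevF4 c c' h s.val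

/-- the parametrisation of the torus of `F₄` over a finite field is injective -/
theorem torHom_injective [Finite K] : Function.Injective (torHom chevF4 K) := by
  rw [injective_iff_map_eq_one]
  intro c hc
  have h1 : c ∈ (mpow (fmat (cartanFn chevF4) chevF4.rank) :
      (Fin chevF4.rank → Kˣ) →* (Fin chevF4.rank → Kˣ)).ker :=
    (mem_ker_torHom_iff chevF4 hF4 c).1 (MonoidHom.mem_ker.2 hc)
  have h2 := card_ker_F4 Kˣ
  rw [Subgroup.card_eq_one] at h2
  rw [h2] at h1
  exact Subgroup.mem_bot.1 h1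

theorem range4 : List.range chevF4.rank = [0, 1, 2, 3] := rfl

/-- a torus element as a word -/
theorem torHom_word (c : Fin chevF4.rank → Kˣ) :
    torHom chevF4 K c = wordGL chevF4 hF4 (chevF4.hWord 33 (extU chevF4 c 0) ++
      (chevF4.hWord 27 (extU chevF4 c 1) ++ (chevF4.hWord 25 (extU chevF4 c 2) ++
        chevF4.hWord 24 (extU chevF4 c 3)))) := by
  rw [torHom_eq_wordGL chevF4 hF4 c, range4]
  simp only [List.flatMap_cons, List.flatMap_nil, List.append_nil]
  rfl

/-- a product of the `h_{p_i}` in the other order -/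
theorem word_val_torus4 (a b c d : K) (ha : a ≠ 0) (hb : b ≠ 0) (hc : c ≠ 0) (hd : d ≠ 0) :
    ((wordGL chevF4 hF4 (chevF4.hWord 24 a ++ (chevF4.hWord 25 b ++ (chevF4.hWord 27 c ++
        chevF4.hWord 33 d))) : GL chevF4.Idx K) : Matrix chevF4.Idx chevF4.Idx K)
      = torusMat chevF4 (fun i => if i = 0 then d else if i = 1 then c else if i = 2 then b
          else if i = 3 then a else 1) := by
  rw [wordGL_val, wordMat_append, wordMat_append, wordMat_append]
  have e1 : chevF4.wordMat K (chevF4.hWord 24 a) = chevF4.hMat K (chevF4.simple 3) a := rfl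
  have e2 : chevF4.wordMat K (chevF4.hWord 25 b) = chevF4.hMat K (chevF4.simple 2) b := rfl
  have e3 : chevF4.wordMat K (chevF4.hWord 27 c) = chevF4.hMat K (chevF4.simple 1) c := rfl
  have e4 : chevF4.wordMat K (chevF4.hWord 33 d) = chevF4.hMat K (chevF4.simple 0) d := rfl
  rw [e1, e2, e3, e4, hMat_simple_eq_torusMat chevF4 hF4 3 (by decide) a ha,
    hMat_simple_eq_torusMat chevF4 hF4 2 (by decide) b hb,
    hMat_simple_eq_torusMat chevF4 hF4 1 (by decide) c hc,
    hMat_simple_eq_torusMat chevF4 hF4 0 (by decide) d hd, torusMat_mul, torusMat_mul, torusMat_mul]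
  apply torusMat_congr4
  intro i hi
  interval_cases i <;> simp

variable [CharP K 2] (m : ℕ)

/-- the action of `σ` on the parameters of the torus -/
noncomputable def sigPar (c : Fin chevF4.rank → Kˣ) : Fin chevF4.rank → Kˣ := fun i =>
  if i.val = 0 then Units.map ((ph (K := K) m).toMonoidHom) (c ⟨3, by decide⟩)
  else if i.val = 1 then Units.map ((ph (K := K) m).toMonoidHom) (c ⟨2, by decide⟩)
  else if i.val = 2 then Units.map ((ps (K := K) m).toMonoidHom) (c ⟨1, by decide⟩)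
  else Units.map ((ps (K := K) m).toMonoidHom) (c ⟨0, by decide⟩)

theorem piR_simple : piR 33 = 24 ∧ piR 27 = 25 ∧ piR 25 = 27 ∧ piR 24 = 33 ∧ lam 33 = 2 ∧
    lam 27 = 2 ∧ lam 25 = 1 ∧ lam 24 = 1 := by decide

/-- `σ` on the torus -/
theorem sigGL_torHom (c : Fin chevF4.rank → Kˣ) :
    sigGL m (torHom chevF4 K c) = torHom chevF4 K (sigPar m c) := by
  obtain ⟨p1, p2, p3, p4, l1, l2, l3, l4⟩ := piR_simple
  rw [torHom_word, sigGL_wordGL, mapW_append, mapW_append, mapW_append,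
    mapW_hWord m 33 (by decide), mapW_hWord m 27 (by decide), mapW_hWord m 25 (by decide),
    mapW_hWord m 24 (by decide), pow_expo_short m 33 l1, pow_expo_short m 27 l2,
    pow_expo_long m 25 l3, pow_expo_long m 24 l4, p1, p2, p3, p4]
  apply Units.ext
  rw [word_val_torus4 _ _ _ _ ((map_ne_zero _).2 (extU_ne_zero chevF4 c 0))
    ((map_ne_zero _).2 (extU_ne_zero chevF4 c 1)) ((map_ne_zero _).2 (extU_ne_zero chevF4 c 2))
    ((map_ne_zero _).2 (extU_ne_zero chevF4 c 3)), torHom_val]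
  apply torusMat_congr4
  intro i hi
  have hi' : i < chevF4.rank := hi
  rw [extU_of_lt chevF4 _ i hi']
  rw [extU_of_lt chevF4 c 0 (by decide), extU_of_lt chevF4 c 1 (by decide),
    extU_of_lt chevF4 c 2 (by decide), extU_of_lt chevF4 c 3 (by decide)]
  interval_cases i <;> simp [sigPar]

/-- the parameters of `h(y, z)` -/
noncomputable def hzPar : Kˣ × Kˣ →* (Fin chevF4.rank → Kˣ) :=
  MonoidHom.pi fun i =>
    if i.val = 0 then (Units.map ((ph (K := K) m).toMonoidHom)).comp (MonoidHom.snd Kˣ Kˣ)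
    else if i.val = 1 then (Units.map ((ph (K := K) m).toMonoidHom)).comp (MonoidHom.fst Kˣ Kˣ)
    else if i.val = 2 then MonoidHom.fst Kˣ Kˣ
    else MonoidHom.snd Kˣ Kˣ

/-- `h(y, z)` -/
noncomputable def hz : Kˣ × Kˣ →* GL chevF4.Idx K := (torHom chevF4 K).comp (hzPar m)

theorem hzPar_injective : Function.Injective (hzPar (K := K) m) := by
  rintro ⟨y, z⟩ ⟨y', z'⟩ h
  have h2 := congrFun h ⟨2, by decide⟩
  have h3 := congrFun h ⟨3, by decide⟩
  simp [hzPar] at h2 h3
  rw [h2, h3]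

theorem hz_injective [Finite K] : Function.Injective (hz (K := K) m) :=
  (torHom_injective (K := K)).comp (hzPar_injective m)

theorem hz_mem_diag (p : Kˣ × Kˣ) : hz m p ∈ chevF4.diagonalSubgroup K := by
  rw [← torHom_range chevF4 hF4]
  exact ⟨hzPar m p, rfl⟩

theorem sigPar_hzPar (hq : ∀ x : K, x ^ 2 ^ (2 * m + 1) = x) (p : Kˣ × Kˣ) :
    sigPar m (hzPar m p) = hzPar m p := by
  funext i
  apply Units.ext
  obtain ⟨i, hi⟩ := i
  have hi' : i < 4 := hi
  interval_cases i <;> simp [sigPar, hzPar, ps_ph m hq]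

theorem hz_mem_fixG (hq : ∀ x : K, x ^ 2 ^ (2 * m + 1) = x) (p : Kˣ × Kˣ) : hz m p ∈ fixG m := by
  refine ⟨diagonal_le_group chevF4 hF4 (hz_mem_diag m p), ?_⟩
  show sigGL m (torHom chevF4 K (hzPar m p)) = torHom chevF4 K (hzPar m p)
  rw [sigGL_torHom, sigPar_hzPar m hq]

/-- the fixed points of `σ` in `H` -/
theorem diag_fix_iff [Finite K] (hq : ∀ x : K, x ^ 2 ^ (2 * m + 1) = x) (g : GL chevF4.Idx K) :
    g ∈ chevF4.diagonalSubgroup K ⊓ fixG m ↔ ∃ p : Kˣ × Kˣ, g = hz m p := by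
  constructor
  · rintro ⟨hH, -, hfix⟩
    rw [SetLike.mem_coe, ← torHom_range chevF4 hF4] at hH
    obtain ⟨c, rfl⟩ := hH
    rw [sigGL_torHom] at hfix
    have hc := torHom_injective hfix
    refine ⟨(c ⟨2, by decide⟩, c ⟨3, by decide⟩), ?_⟩
    show torHom chevF4 K c = torHom chevF4 K (hzPar m (c ⟨2, by decide⟩, c ⟨3, by decide⟩))
    congr 1
    funext i
    obtain ⟨i, hi⟩ := i
    have hi' : i < 4 := hi
    have h0 := congrFun hc ⟨0, by decide⟩
    have h1 := congrFun hc ⟨1, by decide⟩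
    interval_cases i
    · rw [← h0]; simp [sigPar, hzPar]
    · rw [← h1]; simp [sigPar, hzPar]
    · simp [hzPar]
    · simp [hzPar]
  · rintro ⟨p, rfl⟩
    exact Subgroup.mem_inf.2 ⟨hz_mem_diag m p, hz_mem_fixG m hq p⟩

/-- the number of fixed points of `σ` in `H` -/
theorem card_diag_fix [Fintype K] (hq : ∀ x : K, x ^ 2 ^ (2 * m + 1) = x) :
    Nat.card ↥(chevF4.diagonalSubgroup K ⊓ fixG m) = (Fintype.card K - 1) ^ 2 := by
  let f : Kˣ × Kˣ → ↥(chevF4.diagonalSubgroup K ⊓ fixG m) := fun p =>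
    ⟨hz m p, (diag_fix_iff m hq _).2 ⟨p, rfl⟩⟩
  have hbij : Function.Bijective f := by
    constructor
    · intro p p' h
      exact hz_injective m (congrArg Subtype.val h)
    · rintro ⟨g, hg⟩
      obtain ⟨p, rfl⟩ := (diag_fix_iff m hq g).1 hg
      exact ⟨p, rfl⟩
  rw [← Nat.card_congr (Equiv.ofBijective f hbij), Nat.card_prod, Nat.card_units,
    Nat.card_eq_fintype_card, sq]

end Cfsg.Agent.Lib.Helper5.F4T
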