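import Mathlib
import Cfsg.Prelude.Def_ChevStructure
import Cfsg.Prelude.Def_LieTwisted
import Cfsg.Agent.Lib.Helper5.F4T.HFix

set_option autoImplicit false

/-!
The large Ree group is the group of fixed points of `σ` in `F₄(K)`.
-/

namespace Cfsg.Agent.Lib.Helper5.F4T

open Cfsg Cfsg.Lie Cfsg.Agent.Lib.Helper5.ChevSym Cfsg.Agent.Lib.Helper5.ChevSymP
  Cfsg.Agent.Lib.Helper5.ChevStruct Cfsg.Agent.Lib.Helper5.Ree Cfsg.Agent.Lib.Helper5.TwX
  Cfsg.Agent.Lib.Helper5.MatPow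

variable {K : Type*} [Field K]

/-! ### The elements `n₁`, `n₂` -/

theorem n1_eq_word : (wGL chevF4 hF4 [0, 3] : GL chevF4.Idx K)
    = wordGL chevF4 hF4 (w1W.map fun p => (p.1, ((p.2 : ℤ) : K))) := by
  have e0 : chevF4.neg 33 = 14 := rfl
  have e3 : chevF4.neg 24 = 23 := rfl
  have s0 : chevF4.simple 0 = 33 := rfl
  have s3 : chevF4.simple 3 = 24 := rfl
  simp [wGL, nGL, wordGL, ChevalleyDatum.nWord, w1W, e0, e3, s0, s3, mul_assoc]

theorem n2_eq_word : (wGL chevF4 hF4 [1, 2, 1, 2] : GL chevF4.Idx K)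
    = wordGL chevF4 hF4 (w2W.map fun p => (p.1, ((p.2 : ℤ) : K))) := by
  have e1 : chevF4.neg 27 = 20 := rfl
  have e2 : chevF4.neg 25 = 22 := rfl
  have s1 : chevF4.simple 1 = 27 := rfl
  have s2 : chevF4.simple 2 = 25 := rfl
  simp [wGL, nGL, wordGL, ChevalleyDatum.nWord, w2W, e1, e2, s1, s2, mul_assoc]

variable [CharP K 2] (m : ℕ)

theorem n1W_eq : (n1W.map fun p => (p.1, ((p.2 : ℤ) : K)))
    = f4PairWord (2 ^ m) 33 24 1 ++ f4PairWord (2 ^ m) 14 23 1 ++ f4PairWord (2 ^ m) 33 24 1 := by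
  rw [pairWord_eq, pairWord_eq]
  simp [n1W]

theorem n2W_eq : (n2W.map fun p => (p.1, ((p.2 : ℤ) : K)))
    = b2ClassWord (2 ^ m) 27 25 28 30 0 1 ++ b2ClassWord (2 ^ m) 20 22 19 17 1 1
        ++ b2ClassWord (2 ^ m) 27 25 28 30 1 0 := by
  rw [classWord_eq, classWord_eq, classWord_eq]
  simp [n2W, CharTwo.add_self_eq_zero]

theorem n1_mem_twisted : (wGL chevF4 hF4 [0, 3] : GL chevF4.Idx K) ∈ twistedF4 K (2 ^ m) := by
  have e : (wGL chevF4 hF4 [0, 3] : GL chevF4.Idx K)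
      = wordGL chevF4 hF4 (n1W.map fun p => (p.1, ((p.2 : ℤ) : K))) := by
    rw [n1_eq_word]
    apply Units.ext
    rw [wordGL_val, wordGL_val, n1_eq two_eq_zero]
  rw [e, n1W_eq m, wordGL_append' chevF4 hF4, wordGL_append' chevF4 hF4]
  exact mul_mem (mul_mem (pair_pos_mem_twisted m _) (pair_neg_mem_twisted m _))
    (pair_pos_mem_twisted m _)

theorem n2_mem_twisted :
    (wGL chevF4 hF4 [1, 2, 1, 2] : GL chevF4.Idx K) ∈ twistedF4 K (2 ^ m) := by
  have e : (wGL chevF4 hF4 [1, 2, 1, 2] : GL chevF4.Idx K)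
      = wordGL chevF4 hF4 (n2W.map fun p => (p.1, ((p.2 : ℤ) : K))) := by
    rw [n2_eq_word]
    apply Units.ext
    rw [wordGL_val, wordGL_val, n2_eq two_eq_zero]
  rw [e, n2W_eq m, wordGL_append' chevF4 hF4, wordGL_append' chevF4 hF4]
  exact mul_mem (mul_mem (class_pos_mem_twisted m _ _) (class_neg_mem_twisted m _ _))
    (class_pos_mem_twisted m _ _)

theorem orb_mem_twisted : ∀ J ∈ orbsF4, (wGL chevF4 hF4 J : GL chevF4.Idx K) ∈ twistedF4 K (2 ^ m) := by
  intro J hJ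
  have : J = [0, 3] ∨ J = [1, 2, 1, 2] := by
    simpa [orbsF4] using hJ
  rcases this with rfl | rfl
  · exact n1_mem_twisted m
  · exact n2_mem_twisted m

theorem orb_mem_fixG (hq : ∀ x : K, x ^ 2 ^ (2 * m + 1) = x) :
    ∀ J ∈ orbsF4, (wGL chevF4 hF4 J : GL chevF4.Idx K) ∈ fixG m :=
  fun J hJ => twisted_le_fixG m hq (orb_mem_twisted m J hJ)

theorem flatten_mem_twisted (Js : List (List ℕ)) (hJs : ∀ J ∈ Js, J ∈ orbsF4) :
    (wGL chevF4 hF4 Js.flatten : GL chevF4.Idx K) ∈ twistedF4 K (2 ^ m) :=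
  wGL_flatten_mem chevF4 hF4 orbsF4 _ (orb_mem_twisted m) Js hJs

/-! ### Conjugation of words -/

/-- conjugation of a word by `n_w` (there are no signs in characteristic 2) -/
theorem wGL_conj_word (w : List ℕ) (hw : Wd chevF4 w) (l : List (ℕ × K))
    (hl : ∀ p ∈ l, p.1 < 48) :
    wGL chevF4 hF4 w * wordGL chevF4 hF4 l * (wGL chevF4 hF4 w)⁻¹
      = wordGL chevF4 hF4 (l.map fun p => (wAct chevF4 w p.1, p.2)) := by
  induction l with
  | nil => simp [wordGL]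
  | cons p l ih =>
    rw [List.map_cons, wordGL_cons', wordGL_cons',
      ← ih (fun q hq => hl q (List.mem_cons_of_mem _ hq))]
    obtain ⟨ε, hε, h⟩ := wGL_conj (F := K) chevF4 hF4 w hw p.1 (hl p (List.mem_cons_self ..))
    have hε1 : ε = 1 := by
      rcases hε with h1 | h1
      · exact h1
      · rw [h1, CharTwo.neg_eq]
    have h1 := h p.2 (xGL chevF4 hF4 p.1 p.2) (xGL_val _ _ _ _)
    rw [hε1, one_mul] at h1
    have h2 : wGL chevF4 hF4 w * xGL chevF4 hF4 p.1 p.2 * (wGL chevF4 hF4 w)⁻¹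
        = xGL chevF4 hF4 (wAct chevF4 w p.1) p.2 := by
      apply Units.ext
      rw [h1, xGL_val]
    rw [← h2]
    group

theorem conj_word_mem (S : Subgroup (GL chevF4.Idx K)) (w : List ℕ) (hw : Wd chevF4 w)
    (hn : wGL chevF4 hF4 w ∈ S) (l : List (ℕ × K)) (hl : ∀ p ∈ l, p.1 < 48)
    (h : wordGL chevF4 hF4 l ∈ S) :
    wordGL chevF4 hF4 (l.map fun p => (wAct chevF4 w p.1, p.2)) ∈ S := by
  rw [← wGL_conj_word w hw l hl]
  exact mul_mem (mul_mem hn h) (inv_mem hn)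

/-! ### The fixed points in `U` -/

/-- the classes of type `A₁ × A₁` of positive roots, as images of the class of `p₁, p₄` -/
def pairConj : List ((ℕ × ℕ) × List (List ℕ)) :=
  [((33, 24), []), ((37, 32), [[1, 2, 1, 2]]), ((38, 43), [[0, 3], [1, 2, 1, 2]]),
   ((39, 45), [[1, 2, 1, 2], [0, 3], [1, 2, 1, 2]])]

/-- the classes of type `B₂` of positive roots, as images of the class of `p₂, p₃` -/
def quadConj : List (Quad × List (List ℕ)) :=
  [(⟨27, 25, 28, 30⟩, []), (⟨34, 26, 36, 42⟩, [[0, 3]]),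
   (⟨35, 31, 40, 46⟩, [[1, 2, 1, 2], [0, 3]]), (⟨29, 41, 44, 47⟩, [[0, 3], [1, 2, 1, 2], [0, 3]])]

theorem pairConj_facts : ∀ e ∈ pairConj, (∀ J ∈ e.2, J ∈ orbsF4) ∧
    wAct chevF4 e.2.flatten 33 = e.1.1 ∧ wAct chevF4 e.2.flatten 24 = e.1.2 := by decide

theorem quadConj_facts : ∀ e ∈ quadConj, (∀ J ∈ e.2, J ∈ orbsF4) ∧
    wAct chevF4 e.2.flatten 27 = e.1.a ∧ wAct chevF4 e.2.flatten 25 = e.1.b ∧
    wAct chevF4 e.2.flatten 28 = e.1.ab ∧ wAct chevF4 e.2.flatten 30 = e.1.aab := by decide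

theorem pair_mem_twisted (e : (ℕ × ℕ) × List (List ℕ)) (he : e ∈ pairConj) (t : K) :
    wordGL chevF4 hF4 [(e.1.1, ph m t), (e.1.2, t)] ∈ twistedF4 K (2 ^ m) := by
  obtain ⟨h1, h2, h3⟩ := pairConj_facts e he
  have hwd := (stable_flattenX chevF4 hF4 gF4 orbsF4 orbsX_F4 e.2 h1).1
  have h := conj_word_mem (twistedF4 K (2 ^ m)) e.2.flatten hwd (flatten_mem_twisted m e.2 h1)
    [(33, ph m t), (24, t)] (by
      intro p hp
      simp only [List.mem_cons, List.not_mem_nil, or_false] at hp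
      rcases hp with rfl | rfl <;> (show (_ : ℕ) < 48; norm_num)) (by
      rw [← pairWord_eq]
      exact pair_pos_mem_twisted m t)
  simp only [List.map_cons, List.map_nil] at h
  rw [h2, h3] at h
  exact h

theorem quad_mem_twisted (e : Quad × List (List ℕ)) (he : e ∈ quadConj) (t u : K) :
    wordGL chevF4 hF4 [(e.1.a, ph m t), (e.1.b, t), (e.1.ab, t * ph m t + u), (e.1.aab, ps m u)]
      ∈ twistedF4 K (2 ^ m) := by
  obtain ⟨h1, h2, h3, h4, h5⟩ := quadConj_facts e he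
  have hwd := (stable_flattenX chevF4 hF4 gF4 orbsF4 orbsX_F4 e.2 h1).1
  have h := conj_word_mem (twistedF4 K (2 ^ m)) e.2.flatten hwd (flatten_mem_twisted m e.2 h1)
    [(27, ph m t), (25, t), (28, t * ph m t + u), (30, ps m u)] (by
      intro p hp
      simp only [List.mem_cons, List.not_mem_nil, or_false] at hp
      rcases hp with rfl | rfl | rfl | rfl <;> (show (_ : ℕ) < 48; norm_num)) (by
      rw [← classWord_eq]
      exact class_pos_mem_twisted m t u)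
  simp only [List.map_cons, List.map_nil] at h
  rw [h2, h3, h4, h5] at h
  exact h

/-- all the classes -/
def allT : List ℕ := [0, 1, 2, 3, 4, 5, 6, 7]

theorem inT_allT : ∀ r ∈ Lpos, inT allT r = true := by decide

omit [CharP K 2] in
theorem pos_eq_run : chevF4.posUnipotent K = rootSetSub chevF4 K {r | r ∈ LS allT} := by
  have e : chevF4.posUnipotent K = rootSetSub chevF4 K {r | chevF4.IsPosRoot r} := rfl
  rw [e]
  congr 1
  ext r
  simp only [Set.mem_ofPred_eq]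
  rw [mem_LS, ← Lpos_pos]
  constructor
  · intro h
    exact ⟨h, inT_allT r h⟩
  · exact fun h => h.1

set_option maxRecDepth 1000000 in
theorem allT_good : checkGoodList chevF4 (LS allT) = true := by decide +kernel

theorem ext_tbl : ∀ p ∈ pairConj, lam p.1.1 = 2 ∧ isAB p.1.1 = false ∧ piR p.1.1 = p.1.2 ∧
    lam p.1.2 = 1 := by decide

theorem ext_tbl4 : ∀ e ∈ quadConj, lam e.1.a = 2 ∧ isAB e.1.a = false ∧ piR e.1.a = e.1.b ∧
    lam e.1.b = 1 ∧ lam e.1.ab = 2 ∧ isAB e.1.ab = true ∧ bOf e.1.ab = e.1.b ∧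
    piR e.1.ab = e.1.aab ∧ lam e.1.aab = 1 := by decide

theorem ext_pair_mem (e : (ℕ × ℕ) × List (List ℕ))
    (he : e ∈ pairConj) (s : ℕ → K) :
    wordGL chevF4 hF4 [(e.1.1, ext m s e.1.1), (e.1.2, ext m s e.1.2)] ∈ twistedF4 K (2 ^ m) := by
  obtain ⟨h1, h2, h3, h4⟩ := ext_tbl e he
  have e1 : ext m s e.1.1 = ph m (s e.1.2) := by
    unfold ext
    rw [if_neg (by rw [h1]; decide), if_neg (by rw [h2]; decide), h3]
  have e2 : ext m s e.1.2 = s e.1.2 := by
    unfold ext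
    rw [if_pos h4]
  rw [e1, e2]
  exact pair_mem_twisted m e he _

theorem ext_quad_mem (hq : ∀ x : K, x ^ 2 ^ (2 * m + 1) = x) (e : Quad × List (List ℕ))
    (he : e ∈ quadConj) (s : ℕ → K) :
    wordGL chevF4 hF4 [(e.1.a, ext m s e.1.a), (e.1.b, ext m s e.1.b), (e.1.ab, ext m s e.1.ab),
      (e.1.aab, ext m s e.1.aab)] ∈ twistedF4 K (2 ^ m) := by
  obtain ⟨h1, h2, h3, h4, h5, h6, h7, h8, h9⟩ := ext_tbl4 e he
  have e1 : ext m s e.1.a = ph m (s e.1.b) := by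
    unfold ext
    rw [if_neg (by rw [h1]; decide), if_neg (by rw [h2]; decide), h3]
  have e2 : ext m s e.1.b = s e.1.b := by
    unfold ext
    rw [if_pos h4]
  have e3 : ext m s e.1.ab = s e.1.b * ph m (s e.1.b) + ph m (s e.1.aab) := by
    unfold ext
    rw [if_neg (by rw [h5]; decide), if_pos h6, h7, h8]
  have e4 : ext m s e.1.aab = ps m (ph m (s e.1.aab)) := by
    unfold ext
    rw [if_pos h9, ps_ph m hq]
  rw [e1, e2, e3, e4]
  exact quad_mem_twisted m e he _ _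

/-- the fixed points of `σ` in `U` lie in the large Ree group -/
theorem pos_fix_le [Fintype K] (hq : ∀ x : K, x ^ 2 ^ (2 * m + 1) = x) :
    chevF4.posUnipotent K ⊓ fixG m ≤ twistedF4 K (2 ^ m) := by
  intro g hg
  rw [pos_eq_run] at hg
  obtain ⟨s, -, rfl⟩ := (run_fix_iff m hq allT allT_good g).1 hg
  rw [prodL_blocks]
  simp only [blocksW, List.map_cons, List.map_nil, List.prod_cons, List.prod_nil, mul_one]
  have p1 := ext_pair_mem m ((33, 24), []) (by decide) s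
  have p2 := ext_pair_mem m ((37, 32), [[1, 2, 1, 2]]) (by decide) s
  have p3 := ext_pair_mem m ((38, 43), [[0, 3], [1, 2, 1, 2]]) (by decide) s
  have p4 := ext_pair_mem m ((39, 45), [[1, 2, 1, 2], [0, 3], [1, 2, 1, 2]]) (by decide) s
  have q1 := ext_quad_mem m hq (⟨27, 25, 28, 30⟩, []) (by decide) s
  have q2 := ext_quad_mem m hq (⟨34, 26, 36, 42⟩, [[0, 3]]) (by decide) s
  have q3 := ext_quad_mem m hq (⟨35, 31, 40, 46⟩, [[1, 2, 1, 2], [0, 3]]) (by decide) s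
  have q4 := ext_quad_mem m hq (⟨29, 41, 44, 47⟩, [[0, 3], [1, 2, 1, 2], [0, 3]]) (by decide) s
  exact mul_mem p1 (mul_mem q2 (mul_mem p3 (mul_mem q4 (mul_mem p4 (mul_mem q3 (mul_mem p2 q1))))))

/-- the number of fixed points of `σ` in `U` -/
theorem card_pos_fix [Fintype K] (hq : ∀ x : K, x ^ 2 ^ (2 * m + 1) = x) :
    Nat.card ↥(chevF4.posUnipotent K ⊓ fixG m) = Fintype.card K ^ 12 := by
  rw [pos_eq_run, card_run m hq allT allT_good]
  rfl

end Cfsg.Agent.Lib.Helper5.F4T
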