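import Mathlib
import Cfsg.Prelude.Def_ChevStructure
import Cfsg.Prelude.Def_LieTwisted
import Cfsg.Agent.Lib.Helper5.F4T.Gen

set_option autoImplicit false

/-!
The fixed points of `σ` in `H` lie in the large Ree group; the large Ree group is the group of
fixed points of `σ`.
-/

namespace Cfsg.Agent.Lib.Helper5.F4T

open Cfsg Cfsg.Lie Cfsg.Agent.Lib.Helper5.ChevSym Cfsg.Agent.Lib.Helper5.ChevSymP
  Cfsg.Agent.Lib.Helper5.ChevStruct Cfsg.Agent.Lib.Helper5.Ree Cfsg.Agent.Lib.Helper5.TwX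
  Cfsg.Agent.Lib.Helper5.MatPow

variable {K : Type*} [Field K]

/-- `n_r(t)` in `GL` -/
def nE (r : ℕ) (t : K) : GL chevF4.Idx K := wordGL chevF4 hF4 (chevF4.nWord r t)

/-- `h_r(t)` in `GL` -/
def hE (r : ℕ) (t : K) : GL chevF4.Idx K := wordGL chevF4 hF4 (chevF4.hWord r t)

theorem nE_eq (r : ℕ) (t : K) :
    nE r t = xGL chevF4 hF4 r t * xGL chevF4 hF4 (chevF4.neg r) (-t⁻¹) * xGL chevF4 hF4 r t := by
  unfold nE ChevalleyDatum.nWord
  simp [wordGL, mul_assoc]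

theorem hE_eq (r : ℕ) (t : K) : hE r t = nE r t * nE r (-1) := by
  unfold hE nE ChevalleyDatum.hWord
  rw [wordGL_append' chevF4 hF4]

theorem nE_mul_neg (r : ℕ) (t : K) : nE r t * nE r (-t) = 1 := by
  apply Units.ext
  unfold nE
  rw [Units.val_mul, wordGL_val, wordGL_val, Units.val_one]
  exact nMat_mul_neg chevF4 hF4 r t

theorem nE_one_inv (r : ℕ) : (nE r (1 : K))⁻¹ = nE r (-1) :=
  inv_eq_of_mul_eq_one_right (nE_mul_neg r 1)

theorem commOK_pair : commOK chevF4 24 14 = true ∧ commOK chevF4 24 33 = true ∧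
    commOK chevF4 23 33 = true ∧ commOK chevF4 23 14 = true := by decide

theorem comm6 {G : Type*} [Group G] (a1 b1 a2 b2 a3 b3 : G) (h12 : Commute b1 a2)
    (h13 : Commute b1 a3) (h23 : Commute b2 a3) :
    a1 * b1 * (a2 * b2) * (a3 * b3) = (a1 * a2 * a3) * (b1 * b2 * b3) := by
  calc a1 * b1 * (a2 * b2) * (a3 * b3) = a1 * (b1 * a2) * (b2 * a3) * b3 := by group
    _ = a1 * (a2 * b1) * (a3 * b2) * b3 := by rw [h12.eq, h23.eq]
    _ = a1 * a2 * (b1 * a3) * b2 * b3 := by group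
    _ = a1 * a2 * (a3 * b1) * b2 * b3 := by rw [h13.eq]
    _ = (a1 * a2 * a3) * (b1 * b2 * b3) := by group

/-- words in `x_{p₄}`, `x_{-p₄}` commute with words in `x_{p₁}`, `x_{-p₁}` -/
theorem commute_long_short (w1 w2 : List (ℕ × K)) (h1 : ∀ p ∈ w1, p.1 = 24 ∨ p.1 = 23)
    (h2 : ∀ p ∈ w2, p.1 = 33 ∨ p.1 = 14) :
    Commute (wordGL chevF4 hF4 w1) (wordGL chevF4 hF4 w2) := by
  apply commute_wordGL
  intro q hq
  apply Commute.symm
  apply commute_wordGL
  intro p hp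
  apply Commute.symm
  obtain ⟨c1, c2, c3, c4⟩ := commOK_pair
  rcases h1 p hp with e | e <;> rcases h2 q hq with e' | e' <;> rw [e, e']
  · exact xGL_commute chevF4 hF4 _ _ c2 _ _
  · exact xGL_commute chevF4 hF4 _ _ c1 _ _
  · exact xGL_commute chevF4 hF4 _ _ c3 _ _
  · exact xGL_commute chevF4 hF4 _ _ c4 _ _

theorem wordGL_two (a b : ℕ) (x y : K) :
    wordGL chevF4 hF4 [(a, x), (b, y)] = xGL chevF4 hF4 a x * xGL chevF4 hF4 b y := by
  simp [wordGL]

variable [CharP K 2] (m : ℕ)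

/-- the element `n_{p₁}(y^θ) n_{p₄}(y)` of the large Ree group -/
theorem mEl_eq (y : K) :
    wordGL chevF4 hF4 (f4PairWord (2 ^ m) 33 24 y) * wordGL chevF4 hF4 (f4PairWord (2 ^ m) 14 23 y⁻¹)
        * wordGL chevF4 hF4 (f4PairWord (2 ^ m) 33 24 y)
      = nE 33 (ph m y) * nE 24 y := by
  rw [pairWord_eq, pairWord_eq, nE_eq, nE_eq, map_inv₀, wordGL_two, wordGL_two]
  have e33 : chevF4.neg 33 = 14 := rfl
  have e24 : chevF4.neg 24 = 23 := rfl
  rw [e33, e24, CharTwo.neg_eq, CharTwo.neg_eq]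
  obtain ⟨c1, c2, c3, -⟩ := commOK_pair
  exact comm6 _ _ _ _ _ _ (xGL_commute chevF4 hF4 _ _ c1 _ _) (xGL_commute chevF4 hF4 _ _ c2 _ _)
    (xGL_commute chevF4 hF4 _ _ c3 _ _)

theorem mEl_mem (y : K) : nE 33 (ph m y) * nE 24 y ∈ twistedF4 K (2 ^ m) := by
  rw [← mEl_eq]
  exact mul_mem (mul_mem (pair_pos_mem_twisted m _) (pair_neg_mem_twisted m _))
    (pair_pos_mem_twisted m _)

theorem hh_mem (y : K) : hE 33 (ph m y) * hE 24 y ∈ twistedF4 K (2 ^ m) := by
  have h1 := mEl_mem m y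
  have h2 := mEl_mem m (1 : K)
  rw [map_one] at h2
  have e : hE 33 (ph m y) * hE 24 y
      = nE 33 (ph m y) * nE 24 y * (nE 33 (1 : K) * nE 24 1)⁻¹ := by
    rw [mul_inv_rev, nE_one_inv, nE_one_inv, hE_eq, hE_eq]
    have hc : Commute (nE 24 y * nE 24 (-1)) (nE 33 (-1 : K)) := by
      have := commute_long_short (chevF4.nWord 24 y ++ chevF4.nWord 24 (-1))
        (chevF4.nWord 33 (-1 : K)) (by
          intro p hp
          simp only [ChevalleyDatum.nWord, List.cons_append, List.nil_append, List.mem_cons,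
            List.not_mem_nil, or_false] at hp
          have e24 : chevF4.neg 24 = 23 := rfl
          rw [e24] at hp
          rcases hp with rfl | rfl | rfl | rfl | rfl | rfl <;> simp) (by
          intro p hp
          simp only [ChevalleyDatum.nWord, List.mem_cons, List.not_mem_nil, or_false] at hp
          have e33 : chevF4.neg 33 = 14 := rfl
          rw [e33] at hp
          rcases hp with rfl | rfl | rfl <;> simp)
      rw [wordGL_append' chevF4 hF4] at this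
      exact this
    calc nE 33 (ph m y) * nE 33 (-1) * (nE 24 y * nE 24 (-1))
        = nE 33 (ph m y) * (nE 33 (-1) * (nE 24 y * nE 24 (-1))) := by group
      _ = nE 33 (ph m y) * ((nE 24 y * nE 24 (-1)) * nE 33 (-1)) := by rw [hc.eq]
      _ = nE 33 (ph m y) * nE 24 y * (nE 24 (-1) * nE 33 (-1)) := by group
  rw [e]
  exact mul_mem h1 (inv_mem h2)

/-! ### The matrices of the `h(y, z)` -/

theorem hz_val (p : Kˣ × Kˣ) :
    ((hz m p : GL chevF4.Idx K) : Matrix chevF4.Idx chevF4.Idx K)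
      = torusMat chevF4 (fun i => if i = 0 then ph m (p.2 : K) else if i = 1 then ph m (p.1 : K)
          else if i = 2 then (p.1 : K) else if i = 3 then (p.2 : K) else 1) := by
  show ((torHom chevF4 K (hzPar m p) : GL chevF4.Idx K) : Matrix chevF4.Idx chevF4.Idx K) = _
  rw [torHom_val]
  apply torusMat_congr4
  intro i hi
  have hi' : i < chevF4.rank := hi
  rw [extU_of_lt chevF4 _ i hi']
  interval_cases i <;> simp [hzPar]

theorem coroot_vals : ((chevF4.coroot.getD 37 #[]).getD 0 0 = 1 ∧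
    (chevF4.coroot.getD 37 #[]).getD 1 0 = 2 ∧ (chevF4.coroot.getD 37 #[]).getD 2 0 = 2 ∧
    (chevF4.coroot.getD 37 #[]).getD 3 0 = 0) ∧ ((chevF4.coroot.getD 32 #[]).getD 0 0 = 0 ∧
    (chevF4.coroot.getD 32 #[]).getD 1 0 = 1 ∧ (chevF4.coroot.getD 32 #[]).getD 2 0 = 2 ∧
    (chevF4.coroot.getD 32 #[]).getD 3 0 = 1) := by decide

/-- `h_{p₁}(z^θ) h_{p₄}(z) = h(1, z)` -/
theorem hh_eq_hz (z : Kˣ) : hE 33 (ph m (z : K)) * hE 24 (z : K) = hz m (1, z) := by
  apply Units.ext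
  have hs : ph m (z : K) ≠ 0 := (map_ne_zero _).2 z.ne_zero
  rw [Units.val_mul, hz_val]
  unfold hE
  rw [wordGL_val, wordGL_val]
  have e1 : chevF4.wordMat K (chevF4.hWord 33 (ph m (z : K)))
      = chevF4.hMat K (chevF4.simple 0) (ph m (z : K)) := rfl
  have e2 : chevF4.wordMat K (chevF4.hWord 24 (z : K)) = chevF4.hMat K (chevF4.simple 3) (z : K) := rfl
  rw [e1, e2, hMat_simple_eq_torusMat chevF4 hF4 0 (by decide) _ hs,
    hMat_simple_eq_torusMat chevF4 hF4 3 (by decide) _ z.ne_zero, torusMat_mul]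
  apply torusMat_congr4
  intro i hi
  interval_cases i <;> simp

/-- the map `z ↦ z^(2θ + 2)` on the units -/
noncomputable def wz (z : Kˣ) : Kˣ := Units.map ((ps (K := K) m).toMonoidHom) z * z ^ 2

/-- `h_{w₂ p₁}(z^θ) h_{w₂ p₄}(z) = h(z^(2θ + 2), z)` -/
theorem hh_conj_eq_hz (hq : ∀ x : K, x ^ 2 ^ (2 * m + 1) = x) (z : Kˣ) :
    hE 37 (ph m (z : K)) * hE 32 (z : K) = hz m (wz m z, z) := by
  apply Units.ext
  have hs : ph m (z : K) ≠ 0 := (map_ne_zero _).2 z.ne_zero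
  rw [Units.val_mul, hz_val]
  unfold hE
  rw [wordGL_val, wordGL_val]
  have e1 : chevF4.wordMat K (chevF4.hWord 37 (ph m (z : K))) = chevF4.hMat K 37 (ph m (z : K)) := rfl
  have e2 : chevF4.wordMat K (chevF4.hWord 32 (z : K)) = chevF4.hMat K 32 (z : K) := rfl
  rw [e1, e2, hMat_eq_torusMat chevF4 hF4 37 (by decide) _ hs,
    hMat_eq_torusMat chevF4 hF4 32 (by decide) _ z.ne_zero, torusMat_mul]
  apply torusMat_congr4
  intro i hi
  obtain ⟨⟨a0, a1, a2, a3⟩, b0, b1, b2, b3⟩ := coroot_vals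
  have two : (2 : ℤ) = ((2 : ℕ) : ℤ) := rfl
  interval_cases i
  · simp only [if_true]
    rw [a0, b0, zpow_one, zpow_zero, mul_one]
  · simp only [one_ne_zero, if_false, if_true]
    rw [a1, b1, zpow_one, two, zpow_natCast]
    simp only [wz, Units.val_mul, Units.coe_map, Units.val_pow_eq_pow_val, MonoidHom.coe_coe,
      RingHom.toMonoidHom_eq_coe, map_mul, map_pow, ph_ps m hq]
    ring
  · simp only [OfNat.ofNat_ne_zero, OfNat.ofNat_ne_one, if_false, if_true]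
    rw [a2, b2, two, zpow_natCast, zpow_natCast]
    simp only [wz, Units.val_mul, Units.coe_map, Units.val_pow_eq_pow_val, MonoidHom.coe_coe,
      RingHom.toMonoidHom_eq_coe, ps_eq]
  · simp only [OfNat.ofNat_ne_zero, OfNat.ofNat_ne_one, if_false, if_true]
    rw [a3, b3, zpow_zero, zpow_one, one_mul]
    simp

omit [CharP K 2] in
theorem hWord_lt (r : ℕ) (hr : r < 48) (t : K) : ∀ p ∈ chevF4.hWord r t, p.1 < 48 := by
  have hn : chevF4.neg r < 48 := (ChevStruct.neg_lt chevF4 hF4 r hr).1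
  intro p hp
  simp only [ChevalleyDatum.hWord, ChevalleyDatum.nWord, List.cons_append,
    List.nil_append, List.mem_cons, List.not_mem_nil, or_false] at hp
  rcases hp with rfl | rfl | rfl | rfl | rfl | rfl <;> assumption

omit [CharP K 2] in
theorem map_hWord (w : List ℕ) (hw : Wd chevF4 w) (r : ℕ) (hr : r < 48) (t : K) :
    (chevF4.hWord r t).map (fun p => (wAct chevF4 w p.1, p.2))
      = chevF4.hWord (wAct chevF4 w r) t := by
  simp only [ChevalleyDatum.hWord, ChevalleyDatum.nWord, List.cons_append,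
    List.nil_append, List.map_cons, List.map_nil, wAct_neg chevF4 hF4 w hw r hr]

/-- conjugation of `h_r(t)` by `n_w` -/
theorem conj_hE (w : List ℕ) (hw : Wd chevF4 w) (r : ℕ) (hr : r < 48) (t : K) :
    wGL chevF4 hF4 w * hE r t * (wGL chevF4 hF4 w)⁻¹ = hE (wAct chevF4 w r) t := by
  unfold hE
  rw [wGL_conj_word w hw _ (hWord_lt r hr t), map_hWord w hw r hr t]

theorem wAct_n2 : wAct chevF4 [1, 2, 1, 2] 33 = 37 ∧ wAct chevF4 [1, 2, 1, 2] 24 = 32 := by
  decide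

theorem wd_n2 : Wd chevF4 [1, 2, 1, 2] := by
  intro i hi
  simp only [List.mem_cons, List.not_mem_nil, or_false] at hi
  rcases hi with rfl | rfl | rfl | rfl <;> decide

/-- conjugation of `h_{p₁}(a) h_{p₄}(b)` by `n₂` -/
theorem conj_hh (a b : K) :
    wGL chevF4 hF4 [1, 2, 1, 2] * (hE 33 a * hE 24 b) * (wGL chevF4 hF4 [1, 2, 1, 2])⁻¹
      = hE 37 a * hE 32 b := by
  obtain ⟨h1, h2⟩ := wAct_n2
  have e1 := conj_hE [1, 2, 1, 2] wd_n2 33 (by norm_num) a
  have e2 := conj_hE [1, 2, 1, 2] wd_n2 24 (by norm_num) b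
  rw [h1] at e1
  rw [h2] at e2
  rw [← e1, ← e2]
  group

/-- `h(1, z)` lies in the large Ree group -/
theorem hz_one_mem (z : Kˣ) : hz m (1, z) ∈ twistedF4 K (2 ^ m) := by
  rw [← hh_eq_hz]
  exact hh_mem m _

/-- `h(z^(2θ+2), 1)` lies in the large Ree group -/
theorem hz_wz_mem (hq : ∀ x : K, x ^ 2 ^ (2 * m + 1) = x) (z : Kˣ) :
    hz m (wz m z, 1) ∈ twistedF4 K (2 ^ m) := by
  have h1 : hz m (wz m z, z) ∈ twistedF4 K (2 ^ m) := by
    rw [← hh_conj_eq_hz m hq, ← conj_hh]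
    exact mul_mem (mul_mem (n2_mem_twisted m) (hh_mem m _)) (inv_mem (n2_mem_twisted m))
  have e : hz m (wz m z, 1) = hz m (wz m z, z) * (hz m (1, z))⁻¹ := by
    rw [← map_inv, ← map_mul]
    congr 1
    simp
  rw [e]
  exact mul_mem h1 (inv_mem (hz_one_mem m z))

theorem coprime_arith (m : ℕ) : Nat.Coprime (2 ^ (2 * m + 1) - 1) (2 ^ (m + 1) + 2) := by
  obtain ⟨k, hk⟩ : ∃ k, 2 ^ m = k + 1 := ⟨2 ^ m - 1, by
    have : 0 < 2 ^ m := pow_pos (by norm_num) _
    omega⟩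
  have e1 : 2 ^ (2 * m + 1) - 1 = (2 ^ (m + 1) + 2) * k + 1 := by
    have : 2 ^ (2 * m + 1) = (2 ^ (m + 1) + 2) * k + 2 := by
      rw [show 2 ^ (2 * m + 1) = 2 * (2 ^ m) ^ 2 by ring, show 2 ^ (m + 1) = 2 * 2 ^ m by ring, hk]
      ring
    omega
  rw [e1, Nat.coprime_mul_left_add_left]
  exact Nat.coprime_one_left _

theorem wz_surjective [Fintype K] (hcard : Fintype.card K = 2 ^ (2 * m + 1)) :
    Function.Surjective (wz (K := K) m) := by
  have hco : (Nat.card Kˣ).Coprime (2 ^ (m + 1) + 2) := by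
    rw [Nat.card_units, Nat.card_eq_fintype_card, hcard]
    exact coprime_arith m
  intro y
  obtain ⟨z, hz⟩ := (powCoprime hco).surjective y
  refine ⟨z, ?_⟩
  rw [← hz]
  apply Units.ext
  simp only [wz, Units.val_mul, Units.coe_map, Units.val_pow_eq_pow_val, MonoidHom.coe_coe,
    RingHom.toMonoidHom_eq_coe, powCoprime_apply, ps_apply]
  exact (pow_add _ _ _).symm

/-- the fixed points of `σ` in `H` lie in the large Ree group -/
theorem diag_fix_le [Fintype K] (hcard : Fintype.card K = 2 ^ (2 * m + 1))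
    (hq : ∀ x : K, x ^ 2 ^ (2 * m + 1) = x) :
    chevF4.diagonalSubgroup K ⊓ fixG m ≤ twistedF4 K (2 ^ m) := by
  intro g hg
  obtain ⟨⟨y, z⟩, rfl⟩ := (diag_fix_iff m hq g).1 hg
  obtain ⟨y', rfl⟩ := wz_surjective m hcard y
  have e : hz m (wz m y', z) = hz m (wz m y', 1) * hz m (1, z) := by
    rw [← map_mul]
    congr 1
    simp
  rw [e]
  exact mul_mem (hz_wz_mem m hq y') (hz_one_mem m z)

/-! ### The large Ree group is the group of fixed points -/

theorem fixG_le_twisted [Fintype K] (hcard : Fintype.card K = 2 ^ (2 * m + 1))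
    (hq : ∀ x : K, x ^ 2 ^ (2 * m + 1) = x) : fixG m ≤ twistedF4 K (2 ^ m) := by
  have hB : ∀ b ∈ chevF4.borelSubgroup K ⊓ fixG m, b ∈ twistedF4 K (2 ^ m) := by
    intro b hb
    obtain ⟨u, hu, h, hh, rfl⟩ := borel_fix m b (Subgroup.mem_inf.1 hb).1 (Subgroup.mem_inf.1 hb).2
    exact mul_mem (pos_fix_le m hq hu) (diag_fix_le m hcard hq hh)
  intro g hg
  obtain ⟨Js, hJs, b, hb, v, hv, rfl⟩ := cell_orbits m (orb_mem_fixG m hq) g hg
  have hwd := (stable_flattenX chevF4 hF4 gF4 orbsF4 orbsX_F4 Js hJs).1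
  have hv' : v ∈ chevF4.posUnipotent K ⊓ fixG m :=
    Subgroup.mem_inf.2 ⟨unegSub_le_pos _ hwd (Subgroup.mem_inf.1 hv).1, (Subgroup.mem_inf.1 hv).2⟩
  exact mul_mem (mul_mem (hB b hb) (flatten_mem_twisted m Js hJs)) (pos_fix_le m hq hv')

theorem twisted_eq_fixG [Fintype K] (hcard : Fintype.card K = 2 ^ (2 * m + 1))
    (hq : ∀ x : K, x ^ 2 ^ (2 * m + 1) = x) : twistedF4 K (2 ^ m) = fixG m :=
  le_antisymm (twisted_le_fixG m hq) (fixG_le_twisted m hcard hq)

end Cfsg.Agent.Lib.Helper5.F4T
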