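import Mathlib
import Cfsg.Prelude.Def_ChevStructure
import Cfsg.Prelude.Def_LieTwisted
import Cfsg.Agent.Lib.Helper5.F4T.Gen2
import Cfsg.Agent.Lib.Helper5.TwX.Weyl
import Cfsg.Agent.Lib.Helper1.DihedralRecognition

set_option autoImplicit false

/-!
The `(B, N)`-pair of the large Ree group, and its Weyl group, dihedral of order 16.
-/

namespace Cfsg.Agent.Lib.Helper5.F4T

open Cfsg Cfsg.Lie Cfsg.Agent.Lib.Helper5.ChevSym Cfsg.Agent.Lib.Helper5.ChevSymP
  Cfsg.Agent.Lib.Helper5.ChevStruct Cfsg.Agent.Lib.Helper5.Ree Cfsg.Agent.Lib.Helper5.TwX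
  Cfsg.Agent.Lib.Helper5.MatPow

variable {K : Type*} [Field K] [CharP K 2] (m : ℕ)

theorem hne_F4 [Fintype K] (hq : ∀ x : K, x ^ 2 ^ (2 * m + 1) = x) :
    ∀ J ∈ orbsF4, ∃ u ∈ unegSub chevF4 K J ⊓ fixG m, u ≠ 1 := by
  intro J hJ
  have hcases : J = [0, 3] ∨ J = [1, 2, 1, 2] := by
    simpa [orbsF4] using hJ
  have hcard : ∃ k, 0 < k ∧
      Nat.card ↥(unegSub chevF4 K J ⊓ fixG m) = Fintype.card K ^ k := by
    rcases hcases with rfl | rfl
    · refine ⟨1, one_pos, ?_⟩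
      have h : Nat.card ↥(unegSub chevF4 K [0, 3] ⊓ fixG m)
          = Fintype.card K ^ (longS [0]).length :=
        card_uneg_canon m hq ([[0, 3]], [0]) (by decide)
      have e : (longS [0]).length = 1 := by decide
      rw [e] at h
      exact h
    · refine ⟨2, two_pos, ?_⟩
      have h : Nat.card ↥(unegSub chevF4 K [1, 2, 1, 2] ⊓ fixG m)
          = Fintype.card K ^ (longS [7]).length :=
        card_uneg_canon m hq ([[1, 2, 1, 2]], [7]) (by decide)
      have e : (longS [7]).length = 2 := by decide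
      rw [e] at h
      exact h
  obtain ⟨k, hk, hc⟩ := hcard
  by_contra h
  push Not at h
  have hbot : unegSub chevF4 K J ⊓ fixG m = ⊥ := (Subgroup.eq_bot_iff_forall _).2 h
  rw [hbot, Subgroup.card_bot] at hc
  have : 1 < Fintype.card K ^ k := Nat.one_lt_pow hk.ne' Fintype.one_lt_card
  omega

/-- the hypotheses for the `(B, N)`-pair -/
theorem hypX_F4 [Fintype K] (hq : ∀ x : K, x ^ 2 ^ (2 * m + 1) = x) :
    HypX chevF4 hF4 gF4 orbsF4 (fixG (K := K) m) where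
  hp := chkPerm_gF4
  hO := orbsX_F4
  hn := orb_mem_fixG m hq
  cell := cell_orbits m (orb_mem_fixG m hq)
  hsub := hsub_F4
  hdist := hdist_F4
  hne := hne_F4 m hq

/-! ### The group `W¹` -/

theorem canon_nodup : canon.Nodup := by decide

set_option maxRecDepth 1000000 in
theorem canon_step : ∀ p ∈ canon, ∀ J ∈ orbsF4, ∃ p' ∈ canon, ∀ r < 48,
    wAct chevF4 (J ++ p.1.flatten) r = wAct chevF4 p'.1.flatten r := by decide +kernel

set_option maxRecDepth 1000000 in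
theorem canon_inj : ∀ p ∈ canon, ∀ p' ∈ canon,
    (∀ r < 48, wAct chevF4 p.1.flatten r = wAct chevF4 p'.1.flatten r) → p = p' := by
  decide +kernel

theorem canon_wd (p : List (List ℕ) × List ℕ) (hp : p ∈ canon) : Wd chevF4 p.1.flatten :=
  (stable_flattenX chevF4 hF4 gF4 orbsF4 orbsX_F4 p.1 (canon_orbs p hp)).1

theorem canon_repr (Js : List (List ℕ)) (hJs : ∀ J ∈ Js, J ∈ orbsF4) :
    ∃ p ∈ canon, wPerm chevF4 hF4 Js.flatten = wPerm chevF4 hF4 p.1.flatten := by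
  induction Js with
  | nil => exact ⟨([], []), by decide, rfl⟩
  | cons J Js ih =>
    obtain ⟨p, hp, e⟩ := ih (fun J' hJ' => hJs J' (List.mem_cons_of_mem _ hJ'))
    have hJ := hJs J (List.mem_cons_self ..)
    obtain ⟨p', hp', e'⟩ := canon_step p hp J hJ
    refine ⟨p', hp', ?_⟩
    have hJwd : Wd chevF4 J := orbsX_F4.wd J hJ
    rw [List.flatten_cons, wPerm_append, e, ← wPerm_append]
    exact (wPerm_eq_iff chevF4 hF4 _ _ (hJwd.append (canon_wd p hp)) (canon_wd p' hp')).2 e'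

/-- the sixteen elements of `W¹` -/
noncomputable def wtList : List (Equiv.Perm (Fin chevF4.nroots)) :=
  canon.map fun p => wPerm chevF4 hF4 p.1.flatten

theorem wtList_nodup : wtList.Nodup := by
  unfold wtList
  apply List.Nodup.map_on _ canon_nodup
  intro p hp p' hp' h
  exact canon_inj p hp p' hp'
    ((wPerm_eq_iff chevF4 hF4 _ _ (canon_wd p hp) (canon_wd p' hp')).1 h)

theorem mem_WT_iff (σ : Equiv.Perm (Fin chevF4.nroots)) :
    σ ∈ WT chevF4 hF4 orbsF4 ↔ σ ∈ wtList := by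
  constructor
  · intro h
    obtain ⟨Js, hJs, rfl⟩ := exists_orbits_of_mem_WTX chevF4 hF4 gF4 orbsF4 orbsX_F4 σ h
    obtain ⟨p, hp, e⟩ := canon_repr Js hJs
    rw [e]
    exact List.mem_map.2 ⟨p, hp, rfl⟩
  · intro h
    obtain ⟨p, hp, rfl⟩ := List.mem_map.1 h
    exact wPerm_flatten_mem_WT chevF4 hF4 orbsF4 p.1 (canon_orbs p hp)

theorem card_WT_F4 : Nat.card ↥(WT chevF4 hF4 orbsF4) = 16 := by
  classical
  rw [Nat.card_eq_fintype_card, Fintype.card_of_subtype wtList.toFinset (fun σ => by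
    rw [List.mem_toFinset]
    exact (mem_WT_iff σ).symm), List.toFinset_card_of_nodup wtList_nodup]
  rfl

/-- the word of the rotation -/
def aW : List ℕ := [0, 3, 1, 2, 1, 2]

set_option maxRecDepth 1000000 in
theorem aW_pow_ne : ∀ k < 8, 0 < k → ∃ r < 48, wAct chevF4 (wpow aW k) r ≠ r := by
  decide +kernel

set_option maxRecDepth 1000000 in
theorem aW_pow8 : ∀ r < 48, wAct chevF4 (wpow aW 8) r = r := by decide +kernel

theorem aW_wd : Wd chevF4 aW :=
  (stable_flattenX chevF4 hF4 gF4 orbsF4 orbsX_F4 [[0, 3], [1, 2, 1, 2]] (by decide)).1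

/-- a reflection -/
noncomputable def bEl : ↥(WT chevF4 hF4 orbsF4) :=
  ⟨wPerm chevF4 hF4 [0, 3], Subgroup.subset_closure ⟨[0, 3], by decide, rfl⟩⟩

/-- the other reflection -/
noncomputable def tEl : ↥(WT chevF4 hF4 orbsF4) :=
  ⟨wPerm chevF4 hF4 [1, 2, 1, 2], Subgroup.subset_closure ⟨[1, 2, 1, 2], by decide, rfl⟩⟩

/-- the rotation -/
noncomputable def aEl : ↥(WT chevF4 hF4 orbsF4) := bEl * tEl

theorem aEl_val : (aEl : Equiv.Perm (Fin chevF4.nroots)) = wPerm chevF4 hF4 aW := by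
  have e : aW = [0, 3] ++ [1, 2, 1, 2] := rfl
  rw [e, wPerm_append]
  rfl

theorem orderOf_aEl : orderOf aEl = 8 := by
  rw [orderOf_eq_iff (by norm_num)]
  constructor
  · apply Subtype.ext
    rw [Subgroup.coe_pow, Subgroup.coe_one, aEl_val, ← wPerm_wpow, ← wPerm_nil chevF4 hF4]
    exact (wPerm_eq_iff chevF4 hF4 _ _ (wd_wpow chevF4 _ aW_wd _) (Wd.nil chevF4)).2 aW_pow8
  · intro k hk hk0 h
    have h1 := congrArg Subtype.val h
    rw [Subgroup.coe_pow, Subgroup.coe_one, aEl_val, ← wPerm_wpow, ← wPerm_nil chevF4 hF4,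
      wPerm_eq_iff chevF4 hF4 _ _ (wd_wpow chevF4 _ aW_wd _) (Wd.nil chevF4)] at h1
    obtain ⟨r, hr, hne⟩ := aW_pow_ne k hk hk0
    exact hne (h1 r hr)

theorem bEl_sq : bEl * bEl = 1 :=
  Subtype.ext (wPerm_orb_sqX chevF4 hF4 gF4 orbsF4 orbsX_F4 [0, 3] (by decide))

theorem tEl_sq : tEl * tEl = 1 :=
  Subtype.ext (wPerm_orb_sqX chevF4 hF4 gF4 orbsF4 orbsX_F4 [1, 2, 1, 2] (by decide))

theorem conj_inv_of_invol {G : Type*} [Group G] (s t : G) (hs : s * s = 1) (ht : t * t = 1) :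
    s * (s * t) * s⁻¹ = (s * t)⁻¹ := by
  have hs' : s⁻¹ = s := inv_eq_of_mul_eq_one_left hs
  have ht' : t⁻¹ = t := inv_eq_of_mul_eq_one_left ht
  rw [mul_inv_rev, hs', ht', ← mul_assoc, hs, one_mul]

theorem bEl_conj : bEl * aEl * bEl⁻¹ = aEl⁻¹ :=
  conj_inv_of_invol bEl tEl bEl_sq tEl_sq

theorem bEl_not_mem : bEl ∉ Subgroup.zpowers aEl := by
  intro h
  obtain ⟨k, hk⟩ := Subgroup.mem_zpowers_iff.1 h
  have hc : Commute bEl aEl := by
    rw [← hk]
    exact (Commute.refl aEl).zpow_left k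
  have h1 : bEl * aEl * bEl⁻¹ = aEl := by
    rw [hc.eq, mul_assoc, mul_inv_cancel, mul_one]
  rw [bEl_conj] at h1
  have h2 : aEl ^ 2 = 1 := by
    rw [sq]
    calc aEl * aEl = aEl⁻¹ * aEl := by rw [h1]
      _ = 1 := inv_mul_cancel _
  have h3 := orderOf_dvd_of_pow_eq_one h2
  rw [orderOf_aEl] at h3
  omega

/-- `W¹` is dihedral of order 16 -/
theorem WT_equiv_dihedral : Nonempty (↥(WT chevF4 hF4 orbsF4) ≃* DihedralGroup 8) :=
  Cfsg.Agent.Lib.Helper1.nonempty_mulEquiv_dihedralGroup 8 aEl bEl orderOf_aEl bEl_not_mem bEl_sq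
    bEl_conj card_WT_F4

/-- `N¹ / H¹` is dihedral of order 16 -/
theorem weyl_F4 [Fintype K] (hq : ∀ x : K, x ^ 2 ^ (2 * m + 1) = x) :
    ∃ φ : ↥(chevF4.monomialSubgroup K ⊓ fixG m) →* DihedralGroup 8, Function.Surjective φ ∧
      φ.ker = (chevF4.diagonalSubgroup K ⊓ fixG m).subgroupOf
        (chevF4.monomialSubgroup K ⊓ fixG m) := by
  obtain ⟨e⟩ := WT_equiv_dihedral
  exact exists_hom_of_equiv chevF4 hF4 gF4 orbsF4 (fixG m) (hypX_F4 m hq) e

end Cfsg.Agent.Lib.Helper5.F4T
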