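import Mathlib
import Cfsg.Prelude.Def_ChevStructure
import Cfsg.Prelude.Def_LieTwisted
import Cfsg.Agent.Lib.Helper5.F4T.BN
import Cfsg.Agent.Lib.Helper5.ChevTwistCore

set_option autoImplicit false

/-!
The core of `B¹` in the large Ree group is trivial.
-/

namespace Cfsg.Agent.Lib.Helper5.F4T

open Cfsg Cfsg.Lie Cfsg.Agent.Lib.Helper5.ChevSym Cfsg.Agent.Lib.Helper5.ChevSymP
  Cfsg.Agent.Lib.Helper5.ChevStruct Cfsg.Agent.Lib.Helper5.Ree Cfsg.Agent.Lib.Helper5.TwX
  Cfsg.Agent.Lib.Helper5.MatPow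

/-- the longest element, as a product of the `w_J` -/
def w0Js : List (List ℕ) :=
  [[0, 3], [1, 2, 1, 2], [0, 3], [1, 2, 1, 2], [0, 3], [1, 2, 1, 2], [0, 3], [1, 2, 1, 2]]

theorem w0Js_mem : ∀ J ∈ w0Js, J ∈ orbsF4 := by decide

set_option maxRecDepth 1000000 in
theorem checkW0_w0 : checkW0 chevF4 w0Js.flatten = true := by decide +kernel

theorem simple_facts : ∀ j < 4, chevF4.simple j ∈ Lpos ∧ isAB (chevF4.simple j) = false := by
  decide

variable {K : Type*} [Field K] [CharP K 2] (m : ℕ)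

/-- an element all of whose conjugates lie in `B` lies in `H` -/
theorem core_le_diagonal (hq : ∀ x : K, x ^ 2 ^ (2 * m + 1) = x) (c : GL chevF4.Idx K)
    (hc : ∀ g ∈ fixG (K := K) m, g * c * g⁻¹ ∈ chevF4.borelSubgroup K) :
    c ∈ chevF4.diagonalSubgroup K := by
  obtain ⟨hwd, hmap⟩ := conj_pos_eq_neg' (K := K) chevF4 hF4 w0Js.flatten checkW0_w0
  set n : GL chevF4.Idx K := wGL chevF4 hF4 w0Js.flatten with hn
  have hnN : n ∈ chevF4.monomialSubgroup K := wGL_mem chevF4 hF4 _ hwd
  have hnG : n ∈ fixG (K := K) m :=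
    wGL_flatten_mem chevF4 hF4 orbsF4 _ (orb_mem_fixG m hq) w0Js w0Js_mem
  have h1 : n⁻¹ * c * n ∈ chevF4.borelSubgroup K := by
    have := hc n⁻¹ (inv_mem hnG)
    rwa [inv_inv] at this
  have h2 : c ∈ (chevF4.borelSubgroup K).map (MulAut.conj n).toMonoidHom := by
    refine ⟨n⁻¹ * c * n, h1, ?_⟩
    show n * (n⁻¹ * c * n) * n⁻¹ = c
    group
  have h3 : (chevF4.borelSubgroup K).map (MulAut.conj n).toMonoidHom
      = chevF4.negUnipotent K ⊔ chevF4.diagonalSubgroup K := by
    unfold ChevalleyDatum.borelSubgroup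
    rw [Subgroup.map_sup, hmap, diagonal_map_conj chevF4 hF4 n hnN]
  rw [h3] at h2
  have h4 : c ∈ chevF4.borelSubgroup K := by
    have := hc 1 (one_mem _)
    simpa using this
  have : c ∈ chevF4.borelSubgroup K ⊓ (chevF4.negUnipotent K ⊔ chevF4.diagonalSubgroup K) :=
    Subgroup.mem_inf.2 ⟨h4, h2⟩
  rwa [borel_inf_negBorel chevF4 hF4] at this

/-- an element all of whose conjugates lie in `B` is trivial -/
theorem core_eq_one [Fintype K] (hq : ∀ x : K, x ^ 2 ^ (2 * m + 1) = x) (c : GL chevF4.Idx K)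
    (hc : ∀ g ∈ fixG (K := K) m, g * c * g⁻¹ ∈ chevF4.borelSubgroup K) : c = 1 := by
  have hcH : c ∈ chevF4.diagonalSubgroup K := core_le_diagonal m hq c hc
  have hconj : ∀ x ∈ fixG (K := K) m, x * c * x⁻¹ ∈ chevF4.diagonalSubgroup K := by
    intro x hx
    apply core_le_diagonal m hq
    intro g hg
    have := hc (g * x) (mul_mem hg hx)
    have e : g * (x * c * x⁻¹) * g⁻¹ = g * x * c * (g * x)⁻¹ := by group
    rw [e]
    exact this
  have hcr : c ∈ (torHom chevF4 K).range := by
    rw [torHom_range chevF4 hF4]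
    exact hcH
  obtain ⟨k, hk⟩ := hcr
  -- the element `u` with all the long parameters equal to `1`
  set s : ℕ → K := fun _ => 1 with hs
  set u : GL chevF4.Idx K := prodL chevF4 hF4 Lpos (ext m s) with hu
  have hufix : u ∈ fixG m := (prodL_fixed_iff m _).2 (sigT_ext m hq s)
  have huU : u ∈ chevF4.posUnipotent K := prodL_mem_pos chevF4 hF4 Lpos Lpos_pos _
  -- `c u c⁻¹ = u`
  have h1 : c * u * c⁻¹ * u⁻¹ ∈ chevF4.posUnipotent K ⊓ chevF4.diagonalSubgroup K := by
    refine Subgroup.mem_inf.2 ⟨?_, ?_⟩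
    · apply mul_mem _ (inv_mem huU)
      have := diagonal_le_normalizer_pos chevF4 hF4 hcH
      rw [Subgroup.mem_normalizer_iff] at this
      exact (this u).1 huU
    · have e : c * u * c⁻¹ * u⁻¹ = c * (u * c * u⁻¹)⁻¹ := by group
      rw [e]
      exact mul_mem hcH (inv_mem (hconj u hufix))
  rw [pos_inf_diagonal chevF4 hF4, Subgroup.mem_bot] at h1
  have h2 : c * u * c⁻¹ = u := by
    have := congrArg (fun y => y * u) h1
    simpa using this
  -- the conjugate as a product
  have h3 : c * u * c⁻¹ = prodL chevF4 hF4 Lpos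
      (fun r => chi chevF4 (extU chevF4 k) r * ext m s r) := by
    have : c * u = prodL chevF4 hF4 Lpos
        (fun r => chi chevF4 (extU chevF4 k) r * ext m s r) * c := by
      apply Units.ext
      rw [Units.val_mul, Units.val_mul, ← hk, torHom_val, hu]
      unfold prodL
      rw [wordGL_val, wordGL_val]
      have := torus_conj_word chevF4 hF4 (extU chevF4 k) (extU_ne_zero chevF4 k)
        (Lpos.map fun r => (r, ext m s r))
      rw [List.map_map] at this
      exact this
    rw [this]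
    group
  rw [h3] at h2
  have key := prodL_unique chevF4 hF4 Lpos Lpos_good Lpos_nodup Lpos_pos Lpos_len _ _ h2
  have hone : ∀ j : Fin chevF4.rank,
      chi chevF4 (extU chevF4 k) (chevF4.simple j.val) = 1 := by
    intro j
    obtain ⟨h1', h2'⟩ := simple_facts j.val j.isLt
    have hval : ext m s (chevF4.simple j.val) = 1 := by
      unfold ext
      by_cases hl : lam (chevF4.simple j.val) = 1
      · rw [if_pos hl]
      · rw [if_neg hl, if_neg (by rw [h2']; decide)]
        exact map_one _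
    have := key _ h1'
    simp only [hval, mul_one] at this
    exact this
  have hker : k ∈ (mpow (fmat (cartanFn chevF4) chevF4.rank) :
      (Fin chevF4.rank → Kˣ) →* (Fin chevF4.rank → Kˣ)).ker := by
    rw [MonoidHom.mem_ker]
    funext j
    apply Units.ext
    rw [← chi_simple_eq, hone j]
    rfl
  rw [← hk]
  exact MonoidHom.mem_ker.1 ((mem_ker_torHom_iff chevF4 hF4 k).2 hker)

/-- the normal core of `B¹` is trivial -/
theorem normalCore_eq_bot [Fintype K] (hq : ∀ x : K, x ^ 2 ^ (2 * m + 1) = x) :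
    ((chevF4.borelSubgroup K ⊓ fixG m).subgroupOf (fixG m)).normalCore = ⊥ := by
  rw [eq_bot_iff]
  intro c hc
  rw [Subgroup.mem_bot]
  have h1 : ∀ g ∈ fixG (K := K) m, g * (c : GL chevF4.Idx K) * g⁻¹ ∈ chevF4.borelSubgroup K := by
    intro g hg
    have := hc ⟨g, hg⟩
    rw [Subgroup.mem_subgroupOf] at this
    exact (Subgroup.mem_inf.1 this).1
  exact Subtype.ext (core_eq_one m hq (c : GL chevF4.Idx K) h1)

end Cfsg.Agent.Lib.Helper5.F4T
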