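import Mathlib

set_option autoImplicit false

/-!
Finite fields with `2^(2m+1)` elements.
-/

namespace Cfsg.Agent.Lib.Helper5.F4T

variable {K : Type*} [Field K] [Fintype K] {m : ℕ}

theorem charP_of_card (hK : Fintype.card K = 2 ^ (2 * m + 1)) : CharP K 2 := by
  obtain ⟨p, hp⟩ := CharP.exists K
  haveI := hp
  obtain ⟨n, hprime, hcard⟩ := FiniteField.card K p
  have hdvd : p ∣ 2 ^ (2 * m + 1) := by
    rw [← hK, hcard]
    exact dvd_pow_self p n.ne_zero
  have h2 : p = 2 := (Nat.prime_dvd_prime_iff_eq hprime Nat.prime_two).1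
    (hprime.dvd_of_dvd_pow hdvd)
  rw [← h2]
  exact hp

theorem pow_card_eq (hK : Fintype.card K = 2 ^ (2 * m + 1)) (x : K) :
    x ^ 2 ^ (2 * m + 1) = x := by
  rw [← hK]
  exact FiniteField.pow_card x

end Cfsg.Agent.Lib.Helper5.F4T
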