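import Mathlib
import Cfsg.Prelude.Def_ChevStructure
import Cfsg.Prelude.Def_LieTwisted
import Cfsg.Agent.Lib.Helper5.F4T.BN

set_option autoImplicit false

/-!
The order of the large Ree group.
-/

namespace Cfsg.Agent.Lib.Helper5.F4T

open Cfsg Cfsg.Lie Cfsg.Agent.Lib.Helper5.ChevSym Cfsg.Agent.Lib.Helper5.ChevSymP
  Cfsg.Agent.Lib.Helper5.ChevStruct Cfsg.Agent.Lib.Helper5.Ree Cfsg.Agent.Lib.Helper5.TwX
  Cfsg.Agent.Lib.Helper5.MatPow

variable {K : Type*} [Field K] [CharP K 2] (m : ℕ)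

theorem canon_get_orbs (i : Fin canon.length) : ∀ J ∈ (canon.get i).1, J ∈ orbsF4 :=
  canon_orbs _ (List.get_mem canon i)

theorem canon_get_wd (i : Fin canon.length) : Wd chevF4 (canon.get i).1.flatten :=
  canon_wd _ (List.get_mem canon i)

/-- the cells -/
noncomputable def cellMapF (hn : ∀ J ∈ orbsF4, wGL chevF4 hF4 J ∈ fixG (K := K) m)
    (p : Σ i : Fin canon.length, ↥(chevF4.borelSubgroup K ⊓ fixG m) ×
      ↥(unegSub chevF4 K (canon.get i).1.flatten ⊓ fixG m)) : ↥(fixG (K := K) m) :=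
  ⟨(p.2.1 : GL chevF4.Idx K) * wGL chevF4 hF4 (canon.get p.1).1.flatten *
    (p.2.2 : GL chevF4.Idx K),
    mul_mem (mul_mem (Subgroup.mem_inf.1 p.2.1.2).2
      (wGL_flatten_mem chevF4 hF4 orbsF4 _ hn _ (canon_get_orbs p.1)))
      (Subgroup.mem_inf.1 p.2.2.2).2⟩

theorem cellMapF_bijective (hn : ∀ J ∈ orbsF4, wGL chevF4 hF4 J ∈ fixG (K := K) m) :
    Function.Bijective (cellMapF m hn) := by
  constructor
  · rintro ⟨i, b, v⟩ ⟨i', b', v'⟩ h
    have hw := canon_get_wd i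
    have hw' := canon_get_wd i'
    have e : (b : GL chevF4.Idx K) * wGL chevF4 hF4 (canon.get i).1.flatten * (v : GL chevF4.Idx K)
        = (b' : GL chevF4.Idx K) * wGL chevF4 hF4 (canon.get i').1.flatten *
          (v' : GL chevF4.Idx K) :=
      congrArg (fun g : ↥(fixG (K := K) m) => (g : GL chevF4.Idx K)) h
    have hN := wGL_mem (F := K) chevF4 hF4 _ hw
    have hN' := wGL_mem (F := K) chevF4 hF4 _ hw'
    have huniq := bruhat_unique chevF4 hF4 _ _ _ _ _ _ (Subgroup.mem_inf.1 b.2).1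
      (Subgroup.mem_inf.1 b'.2).1 hN hN'
      (unegSub_le_unegOf chevF4 hF4 _ hw (Subgroup.mem_inf.1 v.2).1)
      (unegSub_le_unegOf chevF4 hF4 _ hw' (Subgroup.mem_inf.1 v'.2).1) e
    have hH : (wGL chevF4 hF4 (canon.get i).1.flatten *
        (wGL chevF4 hF4 (canon.get i').1.flatten)⁻¹ : GL chevF4.Idx K)
        ∈ chevF4.diagonalSubgroup K := by
      have h1 := (conj_monomial_diag_mem chevF4 hF4 _ hN _ huniq.1).1
      have e1 : (wGL chevF4 hF4 (canon.get i).1.flatten *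
          (wGL chevF4 hF4 (canon.get i').1.flatten)⁻¹ : GL chevF4.Idx K)
          = (wGL chevF4 hF4 (canon.get i).1.flatten *
            ((wGL chevF4 hF4 (canon.get i).1.flatten)⁻¹ *
              wGL chevF4 hF4 (canon.get i').1.flatten)
            * (wGL chevF4 hF4 (canon.get i).1.flatten)⁻¹)⁻¹ := by group
      rw [e1]
      exact inv_mem h1
    have hact := (hrel_iff_act_eq chevF4 hF4 _ _ hw hw').1 hH
    have hp : canon.get i = canon.get i' :=
      canon_inj _ (List.get_mem canon i) _ (List.get_mem canon i') hact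
    have hi : i = i' := (List.Nodup.get_inj_iff canon_nodup).1 hp
    subst hi
    obtain ⟨hb, hv⟩ := huniq.2 rfl
    have hb' : b = b' := Subtype.ext hb
    have hv' : v = v' := Subtype.ext hv
    rw [hb', hv']
  · rintro ⟨g, hg⟩
    obtain ⟨Js, hJs, b, hb, v, hv, e⟩ := cell_orbits m hn g hg
    obtain ⟨p, hp, hperm⟩ := canon_repr Js hJs
    obtain ⟨i, rfl⟩ := List.get_of_mem hp
    have hw := (stable_flattenX chevF4 hF4 gF4 orbsF4 orbsX_F4 Js hJs).1
    have hw₀ := canon_get_wd i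
    have hact : ∀ r < chevF4.nroots,
        wAct chevF4 Js.flatten r = wAct chevF4 (canon.get i).1.flatten r :=
      (wPerm_eq_iff chevF4 hF4 _ _ hw hw₀).1 hperm
    have hH := hrel_of_act_eq (F := K) chevF4 hF4 _ _ hw hw₀ hact
    have hHfix : (wGL chevF4 hF4 Js.flatten * (wGL chevF4 hF4 (canon.get i).1.flatten)⁻¹ :
        GL chevF4.Idx K) ∈ fixG m :=
      mul_mem (wGL_flatten_mem chevF4 hF4 orbsF4 _ hn Js hJs)
        (inv_mem (wGL_flatten_mem chevF4 hF4 orbsF4 _ hn _ (canon_get_orbs i)))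
    obtain ⟨hv1, hv2⟩ := Subgroup.mem_inf.1 hv
    obtain ⟨hb1, hb2⟩ := Subgroup.mem_inf.1 hb
    have hv' : v ∈ unegSub chevF4 K (canon.get i).1.flatten := by
      rw [← unegSub_congr chevF4 Js.flatten _ hact]
      exact hv1
    refine ⟨⟨i, ⟨b * (wGL chevF4 hF4 Js.flatten * (wGL chevF4 hF4 (canon.get i).1.flatten)⁻¹),
      Subgroup.mem_inf.2 ⟨mul_mem hb1 (diagonal_le_borel chevF4 hH), mul_mem hb2 hHfix⟩⟩,
      ⟨v, Subgroup.mem_inf.2 ⟨hv', hv2⟩⟩⟩, ?_⟩
    apply Subtype.ext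
    show b * (wGL chevF4 hF4 Js.flatten * (wGL chevF4 hF4 (canon.get i).1.flatten)⁻¹) *
      wGL chevF4 hF4 (canon.get i).1.flatten * v = g
    rw [e]
    group

/-- `|B ∩ G¹| = |U ∩ G¹| |H ∩ G¹|` -/
theorem card_borel_fix [Fintype K] (hq : ∀ x : K, x ^ 2 ^ (2 * m + 1) = x) :
    Nat.card ↥(chevF4.borelSubgroup K ⊓ fixG m)
      = Fintype.card K ^ 12 * (Fintype.card K - 1) ^ 2 := by
  let f : ↥(chevF4.posUnipotent K ⊓ fixG m) × ↥(chevF4.diagonalSubgroup K ⊓ fixG m) →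
      ↥(chevF4.borelSubgroup K ⊓ fixG m) := fun p =>
    ⟨p.1.1 * p.2.1, Subgroup.mem_inf.2
      ⟨mul_mem (pos_le_borel chevF4 (Subgroup.mem_inf.1 p.1.2).1)
        (diagonal_le_borel chevF4 (Subgroup.mem_inf.1 p.2.2).1),
       mul_mem (Subgroup.mem_inf.1 p.1.2).2 (Subgroup.mem_inf.1 p.2.2).2⟩⟩
  have hbij : Function.Bijective f := by
    constructor
    · rintro ⟨⟨u, hu⟩, ⟨h, hh⟩⟩ ⟨⟨u', hu'⟩, ⟨h', hh'⟩⟩ e
      have e' : u * h = u' * h' := congrArg Subtype.val e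
      have h1 : u'⁻¹ * u = h' * h⁻¹ := by
        have : u = u' * h' * h⁻¹ := by rw [← e']; group
        rw [this]; group
      have h2 : u'⁻¹ * u ∈ chevF4.posUnipotent K ⊓ chevF4.diagonalSubgroup K :=
        Subgroup.mem_inf.2 ⟨mul_mem (inv_mem (Subgroup.mem_inf.1 hu').1) (Subgroup.mem_inf.1 hu).1,
          by rw [h1]; exact mul_mem (Subgroup.mem_inf.1 hh').1 (inv_mem (Subgroup.mem_inf.1 hh).1)⟩
      rw [pos_inf_diagonal chevF4 hF4, Subgroup.mem_bot] at h2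
      have hu_eq : u = u' := by
        have := congrArg (fun y => u' * y) h2
        simpa using this
      have hh_eq : h = h' := by
        rw [hu_eq] at e'
        exact mul_left_cancel e'
      subst hu_eq hh_eq
      rfl
    · rintro ⟨b, hb⟩
      obtain ⟨u, hu, h, hh, rfl⟩ := borel_fix m b (Subgroup.mem_inf.1 hb).1 (Subgroup.mem_inf.1 hb).2
      exact ⟨(⟨u, hu⟩, ⟨h, hh⟩), rfl⟩
  rw [← Nat.card_congr (Equiv.ofBijective f hbij), Nat.card_prod, card_pos_fix m hq,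
    card_diag_fix m hq]

theorem canon_lengths : canon.map (fun p => (longS p.2).length)
    = [0, 1, 2, 3, 3, 4, 5, 6, 6, 7, 8, 9, 9, 10, 11, 12] := by decide

/-- the order of the group of fixed points -/
theorem card_fixG [Fintype K] (hq : ∀ x : K, x ^ 2 ^ (2 * m + 1) = x) :
    Nat.card ↥(fixG (K := K) m)
      = Fintype.card K ^ 12 * (Fintype.card K - 1) ^ 2 *
        ([0, 1, 2, 3, 3, 4, 5, 6, 6, 7, 8, 9, 9, 10, 11, 12].map fun d => Fintype.card K ^ d).sum := by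
  have hn := orb_mem_fixG m hq
  rw [← Nat.card_congr (Equiv.ofBijective _ (cellMapF_bijective m hn)), Nat.card_sigma]
  have h1 : ∀ i : Fin canon.length,
      Nat.card (↥(chevF4.borelSubgroup K ⊓ fixG m) ×
        ↥(unegSub chevF4 K (canon.get i).1.flatten ⊓ fixG m))
      = Fintype.card K ^ 12 * (Fintype.card K - 1) ^ 2 *
        Fintype.card K ^ (longS (canon.get i).2).length := by
    intro i
    rw [Nat.card_prod, card_borel_fix m hq, card_uneg_canon m hq _ (List.get_mem canon i)]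
  simp_rw [h1]
  rw [← Finset.mul_sum, ← canon_lengths, List.map_map]
  refine congrArg _ ?_
  exact Fin.sum_univ_fun_getElem canon (fun p => Fintype.card K ^ (longS p.2).length)

theorem order_arith (Q : ℕ) (hQ : 1 ≤ Q) :
    Q ^ 12 * (Q - 1) ^ 2 *
        ([0, 1, 2, 3, 3, 4, 5, 6, 6, 7, 8, 9, 9, 10, 11, 12].map fun d => Q ^ d).sum
      = Q ^ 12 * (Q - 1) * (Q ^ 3 + 1) * (Q ^ 4 - 1) * (Q ^ 6 + 1) := by
  obtain ⟨k, rfl⟩ : ∃ k, Q = k + 1 := ⟨Q - 1, by omega⟩
  have e1 : k + 1 - 1 = k := by omega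
  have e2 : (k + 1) ^ 4 - 1 = k ^ 4 + 4 * k ^ 3 + 6 * k ^ 2 + 4 * k := by
    have : (k + 1) ^ 4 = k ^ 4 + 4 * k ^ 3 + 6 * k ^ 2 + 4 * k + 1 := by ring
    omega
  rw [e1, e2]
  simp only [List.map_cons, List.map_nil, List.sum_cons, List.sum_nil]
  ring

end Cfsg.Agent.Lib.Helper5.F4T
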