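import Mathlib
import Cfsg.Prelude.Def_ChevStructure
import Cfsg.Prelude.Def_LieTwisted
import Cfsg.Agent.Lib.Helper5.F4T.Ident

set_option autoImplicit false

/-!
The product of two elements of the unipotent group of the class of type `B₂` of the fundamental
roots `p₂, p₃` of `F₄`, in characteristic 2.
-/

namespace Cfsg.Agent.Lib.Helper5.F4T

open Cfsg Cfsg.Lie Cfsg.Agent.Lib.Helper5.ChevSym Cfsg.Agent.Lib.Helper5.ChevSymP
  Cfsg.Agent.Lib.Helper5.Ree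

-- variables: a1 = 0, b1 = 1, c1 = 2, d1 = 3, a2 = 4, b2 = 5, c2 = 6, d2 = 7
def mw1 : List (ℕ × PolyP) :=
  [(27, [([1,0,0,0,0,0,0,0], 1)]), (25, [([0,1,0,0,0,0,0,0], 1)]),
   (28, [([0,0,1,0,0,0,0,0], 1)]), (30, [([0,0,0,1,0,0,0,0], 1)]),
   (27, [([0,0,0,0,1,0,0,0], 1)]), (25, [([0,0,0,0,0,1,0,0], 1)]),
   (28, [([0,0,0,0,0,0,1,0], 1)]), (30, [([0,0,0,0,0,0,0,1], 1)])]

def mw2 : List (ℕ × PolyP) :=
  [(27, [([1,0,0,0,0,0,0,0], 1), ([0,0,0,0,1,0,0,0], 1)]),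
   (25, [([0,1,0,0,0,0,0,0], 1), ([0,0,0,0,0,1,0,0], 1)]),
   (28, [([0,0,1,0,0,0,0,0], 1), ([0,0,0,0,0,0,1,0], 1), ([0,1,0,0,1,0,0,0], 1)]),
   (30, [([0,0,0,1,0,0,0,0], 1), ([0,0,0,0,0,0,0,1], 1), ([0,1,0,0,2,0,0,0], 1)])]

set_option maxRecDepth 1000000 in
theorem chk_quad_mul : ∀ col ∈ allCols,
    vecEqP 2 (wordColP chevF4 2 mw1 col) (wordColP chevF4 2 mw2 col) = true := by
  decide +kernel

variable {K : Type*} [Field K]

/-- the product in the unipotent group of the class of `p₂, p₃` -/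
theorem quad_mul (hp : ((2 : ℕ) : K) = 0) (a1 b1 c1 d1 a2 b2 c2 d2 : K) :
    chevF4.wordMat K [(27, a1), (25, b1), (28, c1), (30, d1), (27, a2), (25, b2), (28, c2), (30, d2)]
      = chevF4.wordMat K [(27, a1 + a2), (25, b1 + b2), (28, c1 + c2 + b1 * a2),
          (30, d1 + d2 + b1 * a2 ^ 2)] := by
  have h := wordMat_eq_of_check hp [a1, b1, c1, d1, a2, b2, c2, d2] mw1 mw2 (by decide)
    chk_quad_mul
  have e1 : evalWP [a1, b1, c1, d1, a2, b2, c2, d2] mw1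
      = [(27, a1), (25, b1), (28, c1), (30, d1), (27, a2), (25, b2), (28, c2), (30, d2)] := by
    simp [evalWP, mw1, evalPolyP, evalMonoP, monoVal]
  have e2 : evalWP [a1, b1, c1, d1, a2, b2, c2, d2] mw2
      = [(27, a1 + a2), (25, b1 + b2), (28, c1 + c2 + b1 * a2), (30, d1 + d2 + b1 * a2 ^ 2)] := by
    simp [evalWP, mw2, evalPolyP, evalMonoP, monoVal, add_assoc]
  rw [e1, e2] at h
  exact h

end Cfsg.Agent.Lib.Helper5.F4T
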