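import Mathlib
import Cfsg.Prelude.Def_ChevStructure
import Cfsg.Prelude.Def_LieTwisted
import Cfsg.Agent.Lib.Helper5.F4T.Core
import Cfsg.Agent.Lib.Helper5.F4T.QuadLaw
import Cfsg.Agent.Lib.Helper5.ChevTwistPerfOrb

set_option autoImplicit false

/-!
The derived group of the large Ree group, and the groups of the two classes of fundamental
roots.
-/

namespace Cfsg.Agent.Lib.Helper5.F4T

open Cfsg Cfsg.Lie Cfsg.Agent.Lib.Helper5.ChevSym Cfsg.Agent.Lib.Helper5.ChevSymP
  Cfsg.Agent.Lib.Helper5.ChevStruct Cfsg.Agent.Lib.Helper5.Ree Cfsg.Agent.Lib.Helper5.TwX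
  Cfsg.Agent.Lib.Helper5.MatPow

open scoped commutatorElement

variable {K : Type*} [Field K] [CharP K 2] (m : ℕ)

/-- the derived subgroup of the group of fixed points, as a subgroup of `GL` -/
def derG : Subgroup (GL chevF4.Idx K) :=
  (commutator ↥(fixG (K := K) m)).map (fixG m).subtype

theorem derG_le : derG (K := K) m ≤ fixG m := by
  intro g hg
  obtain ⟨y, _, rfl⟩ := Subgroup.mem_map.1 hg
  exact y.2

theorem comm_mem_derG (a b : GL chevF4.Idx K) (ha : a ∈ fixG m) (hb : b ∈ fixG m) :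
    a * b * a⁻¹ * b⁻¹ ∈ derG m := by
  have h1 : ⁅(⟨a, ha⟩ : ↥(fixG (K := K) m)), (⟨b, hb⟩ : ↥(fixG (K := K) m))⁆
      ∈ commutator ↥(fixG (K := K) m) := by
    rw [commutator_def]
    exact Subgroup.commutator_mem_commutator (Subgroup.mem_top _) (Subgroup.mem_top _)
  refine Subgroup.mem_map.2 ⟨_, h1, ?_⟩
  rw [commutatorElement_def]
  rfl

theorem conj_mem_derG (g x : GL chevF4.Idx K) (hg : g ∈ fixG m) (hx : x ∈ derG m) :
    g * x * g⁻¹ ∈ derG m := by
  obtain ⟨y, hy, e⟩ := Subgroup.mem_map.1 hx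
  have hn : (commutator ↥(fixG (K := K) m)).Normal := inferInstance
  have h1 := hn.conj_mem y hy ⟨g, hg⟩
  refine Subgroup.mem_map.2 ⟨_, h1, ?_⟩
  rw [← e]
  rfl

/-! ### The class of `p₂, p₃` -/

/-- `x_{p₂}(a) x_{p₃}(b) x_{p₂+p₃}(c) x_{2p₂+p₃}(d)` -/
def Wq (a b c d : K) : GL chevF4.Idx K :=
  wordGL chevF4 hF4 [(27, a), (25, b), (28, c), (30, d)]

theorem Wq_mul (a1 b1 c1 d1 a2 b2 c2 d2 : K) :
    Wq a1 b1 c1 d1 * Wq a2 b2 c2 d2
      = Wq (a1 + a2) (b1 + b2) (c1 + c2 + b1 * a2) (d1 + d2 + b1 * a2 ^ 2) := by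
  unfold Wq
  rw [← wordGL_append' chevF4 hF4]
  apply Units.ext
  rw [wordGL_val, wordGL_val]
  exact quad_mul two_eq_zero _ _ _ _ _ _ _ _

omit [CharP K 2] in
theorem Wq_zero : Wq (0 : K) 0 0 0 = 1 := by
  simp [Wq, wordGL, xGL_zero'']

theorem Wq_inv (a b c d : K) : (Wq a b c d)⁻¹ = Wq a b (c + b * a) (d + b * a ^ 2) := by
  apply inv_eq_of_mul_eq_one_right
  rw [Wq_mul, ← Wq_zero]
  have h2 := two_zero (K := K)
  congr 1
  · linear_combination a * h2
  · linear_combination b * h2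
  · linear_combination (c + b * a) * h2
  · linear_combination (d + b * a ^ 2) * h2

/-- the parameters of `Wq` as a function on the roots -/
def tq (a b c d : K) (r : ℕ) : K :=
  if r = 27 then a else if r = 25 then b else if r = 28 then c else if r = 30 then d else 0

omit [CharP K 2] in
theorem Wq_eq_prodL (a b c d : K) : Wq a b c d = prodL chevF4 hF4 Lpos (tq a b c d) := by
  rw [prodL_filter Lpos (fun r => memNat r [27, 25, 28, 30]) _ (by
    intro r _ hp
    have hnot : r ∉ [27, 25, 28, 30] := by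
      intro h
      rw [← memNat_iff] at h
      rw [h] at hp
      exact Bool.noConfusion hp
    simp only [List.mem_cons, List.not_mem_nil, or_false, not_or] at hnot
    obtain ⟨h1, h2, h3, h4⟩ := hnot
    unfold tq
    rw [if_neg h1, if_neg h2, if_neg h3, if_neg h4])]
  have e : Lpos.filter (fun r => memNat r [27, 25, 28, 30]) = [27, 25, 28, 30] := by decide
  rw [e]
  simp [prodL, Wq, tq]

omit [CharP K 2] in
theorem Wq_inj [Fintype K] (a b c d a' b' c' d' : K) (h : Wq a b c d = Wq a' b' c' d') :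
    a = a' ∧ b = b' ∧ c = c' ∧ d = d' := by
  rw [Wq_eq_prodL, Wq_eq_prodL] at h
  have key := prodL_unique chevF4 hF4 Lpos Lpos_good Lpos_nodup Lpos_pos Lpos_len _ _ h
  have h27 := key 27 (by decide)
  have h25 := key 25 (by decide)
  have h28 := key 28 (by decide)
  have h30 := key 30 (by decide)
  simp [tq] at h27 h25 h28 h30
  exact ⟨h27, h25, h28, h30⟩

/-- the fixed points among the `Wq` -/
theorem Wq_fixed [Fintype K] (hq : ∀ x : K, x ^ 2 ^ (2 * m + 1) = x) (a b c d : K)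
    (h : Wq a b c d ∈ fixG m) : a = ph m b ∧ d = ps m (c + b * ph m b) := by
  have h1 := h.2
  unfold Wq at h1
  rw [sigGL_quad m ⟨27, 25, 28, 30⟩ (by decide)] at h1
  obtain ⟨e1, e2, e3, e4⟩ := Wq_inj _ _ _ _ _ _ _ _ h1
  refine ⟨e1.symm, ?_⟩
  have e5 : ph m d = c + b * ph m b := by
    rw [← e3, e2]
    have h2 := two_zero (K := K)
    linear_combination (-(b * ph m b)) * h2
  rw [← e5, ps_ph m hq]

/-- the element `α(t, u)` -/
noncomputable def Aq (t u : K) : GL chevF4.Idx K := Wq (ph m t) t (t * ph m t + u) (ps m u)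

theorem Aq_eq (t u : K) :
    Aq m t u = wordGL chevF4 hF4 (b2ClassWord (2 ^ m) 27 25 28 30 t u) := by
  rw [classWord_eq]
  rfl

theorem Aq_mem_fixG (hq : ∀ x : K, x ^ 2 ^ (2 * m + 1) = x) (t u : K) : Aq m t u ∈ fixG m := by
  rw [Aq_eq]
  exact class_mem_fixG m hq ⟨27, 25, 28, 30⟩ (by decide) t u

/-- an element `Wq` of the derived group is an `α(t, u)` -/
theorem Aq_of_Wq_mem [Fintype K] (hq : ∀ x : K, x ^ 2 ^ (2 * m + 1) = x) (a b c d : K)
    (h : Wq a b c d ∈ derG m) : Aq m b (c + b * ph m b) ∈ derG m := by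
  obtain ⟨e1, e2⟩ := Wq_fixed m hq a b c d (derG_le m h)
  have e3 : b * ph m b + (c + b * ph m b) = c := by
    have h2 := two_zero (K := K)
    linear_combination (b * ph m b) * h2
  unfold Aq
  rw [e3, ← e2, ← e1]
  exact h

theorem Aq_mul_zero (t u₀ u : K) : Aq m t u₀ * Aq m 0 (u + u₀) = Aq m t u := by
  unfold Aq
  rw [Wq_mul]
  have h2 := two_zero (K := K)
  congr 1
  · rw [map_zero, add_zero]
  · rw [add_zero]
  · rw [map_zero]
    linear_combination u₀ * h2
  · rw [map_zero, map_add]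
    linear_combination (ps m u₀) * h2

/-! ### The class of `p₁, p₄` -/

/-- `x_{p₁}(a) x_{p₄}(b)` -/
def Pq (a b : K) : GL chevF4.Idx K := wordGL chevF4 hF4 [(33, a), (24, b)]

omit [CharP K 2] in
theorem Pq_mul (a1 b1 a2 b2 : K) : Pq a1 b1 * Pq a2 b2 = Pq (a1 + a2) (b1 + b2) := by
  unfold Pq
  rw [wordGL_two, wordGL_two, wordGL_two, xGL_add, xGL_add]
  have hc := xGL_commute (K := K) chevF4 hF4 24 33 commOK_pair.2.1 b1 a2
  calc xGL chevF4 hF4 33 a1 * xGL chevF4 hF4 24 b1 * (xGL chevF4 hF4 33 a2 * xGL chevF4 hF4 24 b2)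
      = xGL chevF4 hF4 33 a1 * (xGL chevF4 hF4 24 b1 * xGL chevF4 hF4 33 a2)
          * xGL chevF4 hF4 24 b2 := by group
    _ = xGL chevF4 hF4 33 a1 * (xGL chevF4 hF4 33 a2 * xGL chevF4 hF4 24 b1)
          * xGL chevF4 hF4 24 b2 := by rw [hc.eq]
    _ = _ := by group

omit [CharP K 2] in
theorem Pq_zero : Pq (0 : K) 0 = 1 := by
  simp [Pq, wordGL, xGL_zero'']

theorem Pq_inv (a b : K) : (Pq a b)⁻¹ = Pq a b := by
  apply inv_eq_of_mul_eq_one_right
  rw [Pq_mul, ← Pq_zero]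
  have h2 := two_zero (K := K)
  congr 1
  · linear_combination a * h2
  · linear_combination b * h2

/-- the parameters of `Pq` as a function on the roots -/
def tp (a b : K) (r : ℕ) : K := if r = 33 then a else if r = 24 then b else 0

omit [CharP K 2] in
theorem Pq_eq_prodL (a b : K) : Pq a b = prodL chevF4 hF4 Lpos (tp a b) := by
  rw [prodL_filter Lpos (fun r => memNat r [33, 24]) _ (by
    intro r _ hp
    have hnot : r ∉ [33, 24] := by
      intro h
      rw [← memNat_iff] at h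
      rw [h] at hp
      exact Bool.noConfusion hp
    simp only [List.mem_cons, List.not_mem_nil, or_false, not_or] at hnot
    obtain ⟨h1, h2⟩ := hnot
    unfold tp
    rw [if_neg h1, if_neg h2])]
  have e : Lpos.filter (fun r => memNat r [33, 24]) = [33, 24] := by decide
  rw [e]
  simp [prodL, Pq, tp]

omit [CharP K 2] in
theorem Pq_inj [Fintype K] (a b a' b' : K) (h : Pq a b = Pq a' b') : a = a' ∧ b = b' := by
  rw [Pq_eq_prodL, Pq_eq_prodL] at h
  have key := prodL_unique chevF4 hF4 Lpos Lpos_good Lpos_nodup Lpos_pos Lpos_len _ _ h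
  have h33 := key 33 (by decide)
  have h24 := key 24 (by decide)
  simp [tp] at h33 h24
  exact ⟨h33, h24⟩

/-- the fixed points among the `Pq` -/
theorem Pq_fixed [Fintype K] (a b : K) (h : Pq a b ∈ fixG m) : a = ph m b := by
  have h1 := h.2
  unfold Pq at h1
  rw [sigGL_pair m (33, 24) (by decide)] at h1
  exact (Pq_inj _ _ _ _ h1).1.symm

theorem Pq_eq (t : K) : Pq (ph m t) t = wordGL chevF4 hF4 (f4PairWord (2 ^ m) 33 24 t) := by
  rw [pairWord_eq]
  rfl

end Cfsg.Agent.Lib.Helper5.F4T
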