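import Mathlib
import Cfsg.Prelude.Def_ChevStructure
import Cfsg.Prelude.Def_LieTwisted
import Cfsg.Agent.Lib.Helper5.F4T.Perf1
import Cfsg.Agent.Lib.Helper5.TwX.Simple

set_option autoImplicit false

/-!
The large Ree groups `²F₄(2^(2m+1))`, `m ≥ 1`, are perfect and simple.
-/

namespace Cfsg.Agent.Lib.Helper5.F4T

open Cfsg Cfsg.Lie Cfsg.Agent.Lib.Helper5.ChevSym Cfsg.Agent.Lib.Helper5.ChevSymP
  Cfsg.Agent.Lib.Helper5.ChevStruct Cfsg.Agent.Lib.Helper5.Ree Cfsg.Agent.Lib.Helper5.TwX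
  Cfsg.Agent.Lib.Helper5.MatPow

variable {K : Type*} [Field K] [CharP K 2] (m : ℕ)

/-- the characters of `h(1, z)` -/
noncomputable def chiz (z : Kˣ) (r : ℕ) : K := chi chevF4 (extU chevF4 (hzPar m (1, z))) r

/-- conjugation of a word by `h(1, z)` -/
theorem hz_conj_word (z : Kˣ) (w : List (ℕ × K)) :
    hz m (1, z) * wordGL chevF4 hF4 w * (hz m (1, z))⁻¹
      = wordGL chevF4 hF4 (w.map fun q => (q.1, chiz m z q.1 * q.2)) := by
  have : hz m (1, z) * wordGL chevF4 hF4 w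
      = wordGL chevF4 hF4 (w.map fun q => (q.1, chiz m z q.1 * q.2)) * hz m (1, z) := by
    apply Units.ext
    rw [Units.val_mul, Units.val_mul, wordGL_val, wordGL_val]
    exact torus_conj_word chevF4 hF4 _ (extU_ne_zero chevF4 (hzPar m (1, z))) w
  rw [this]
  group

theorem chi_hz1 (z : Kˣ) (r : ℕ) :
    chiz m z r = (ph m (z : K)) ^ (chevF4.cartan 0 r) * (z : K) ^ (chevF4.cartan 3 r) := by
  unfold chiz chi
  rw [range4]
  simp only [List.map_cons, List.map_nil, List.prod_cons, List.prod_nil]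
  rw [extU_of_lt chevF4 _ 0 (by decide), extU_of_lt chevF4 _ 1 (by decide),
    extU_of_lt chevF4 _ 2 (by decide), extU_of_lt chevF4 _ 3 (by decide)]
  simp [hzPar]

theorem cartan_facts : chevF4.cartan 0 24 = 0 ∧ chevF4.cartan 3 24 = 2 ∧
    chevF4.cartan 0 25 = 0 ∧ chevF4.cartan 3 25 = -1 ∧
    chevF4.cartan 0 28 = -1 ∧ chevF4.cartan 3 28 = -1 := by decide

theorem chiz24 (z : Kˣ) : chiz m z 24 = (z : K) ^ 2 := by
  obtain ⟨h1, h2, -⟩ := cartan_facts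
  rw [chi_hz1, h1, h2, zpow_zero, one_mul]
  exact zpow_ofNat _ 2

theorem chiz25 (z : Kˣ) : chiz m z 25 = (z : K)⁻¹ := by
  obtain ⟨-, -, h1, h2, -⟩ := cartan_facts
  rw [chi_hz1, h1, h2, zpow_zero, one_mul, zpow_neg_one]

theorem chiz28 (z : Kˣ) : chiz m z 28 = (ph m (z : K))⁻¹ * (z : K)⁻¹ := by
  obtain ⟨-, -, -, -, h1, h2⟩ := cartan_facts
  rw [chi_hz1, h1, h2, zpow_neg_one, zpow_neg_one]

/-! ### The class of `p₂, p₃` -/

theorem hz_conj_Wq (z : Kˣ) (a b c d : K) :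
    hz m (1, z) * Wq a b c d * (hz m (1, z))⁻¹
      = Wq (chiz m z 27 * a) (chiz m z 25 * b) (chiz m z 28 * c) (chiz m z 30 * d) := by
  unfold Wq
  rw [hz_conj_word]
  rfl

theorem comm_Wq (hq : ∀ x : K, x ^ 2 ^ (2 * m + 1) = x) (z : Kˣ) (a b c d : K)
    (hX : Wq a b c d ∈ fixG m) :
    Wq (chiz m z 27 * a + a) (chiz m z 25 * b + b)
      (chiz m z 28 * c + (c + b * a) + chiz m z 25 * b * a)
      (chiz m z 30 * d + (d + b * a ^ 2) + chiz m z 25 * b * a ^ 2) ∈ derG m := by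
  have hc := comm_mem_derG m _ _ (hz_mem_fixG m hq (1, z)) hX
  rw [hz_conj_Wq, Wq_inv, Wq_mul] at hc
  exact hc

theorem add_one_ne_zero' (x : K) (hx : x ≠ 1) : x + 1 ≠ 0 := by
  intro h
  apply hx
  have := eq_neg_of_add_eq_zero_left h
  rw [this, CharTwo.neg_eq]

theorem Aq_zero_mem [Fintype K] (hq : ∀ x : K, x ^ 2 ^ (2 * m + 1) = x) (z : Kˣ)
    (h28 : chiz m z 28 ≠ 1) (u : K) : Aq m 0 u ∈ derG m := by
  have hne := add_one_ne_zero' _ h28
  obtain ⟨u', hu'⟩ : ∃ u', chiz m z 28 * u' + u' = u :=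
    ⟨u / (chiz m z 28 + 1), by field_simp⟩
  have hX : Wq 0 0 u' (ps m u') ∈ fixG m := by
    have := Aq_mem_fixG m hq 0 u'
    simpa [Aq] using this
  have h1 := comm_Wq m hq z 0 0 u' (ps m u') hX
  have h2 := Aq_of_Wq_mem m hq _ _ _ _ h1
  have e1 : chiz m z 25 * 0 + 0 = (0 : K) := by ring
  have e2 : chiz m z 28 * u' + (u' + 0 * 0) + chiz m z 25 * 0 * 0
      + (chiz m z 25 * 0 + 0) * ph m (chiz m z 25 * 0 + 0) = u := by
    rw [e1, map_zero]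
    linear_combination hu'
  rw [e2, e1] at h2
  exact h2

theorem exists_Aq_mem [Fintype K] (hq : ∀ x : K, x ^ 2 ^ (2 * m + 1) = x) (z : Kˣ)
    (h25 : chiz m z 25 ≠ 1) (t : K) : ∃ u₀, Aq m t u₀ ∈ derG m := by
  have hne := add_one_ne_zero' _ h25
  obtain ⟨t', ht'⟩ : ∃ t', chiz m z 25 * t' + t' = t :=
    ⟨t / (chiz m z 25 + 1), by field_simp⟩
  have hX : Wq (ph m t') t' (t' * ph m t' + 0) (ps m 0) ∈ fixG m := Aq_mem_fixG m hq t' 0
  have h1 := comm_Wq m hq z _ _ _ _ hX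
  have h2 := Aq_of_Wq_mem m hq _ _ _ _ h1
  rw [ht'] at h2
  exact ⟨_, h2⟩

theorem Aq_mem_derG [Fintype K] (hq : ∀ x : K, x ^ 2 ^ (2 * m + 1) = x) (z : Kˣ)
    (h25 : chiz m z 25 ≠ 1) (h28 : chiz m z 28 ≠ 1) (t u : K) : Aq m t u ∈ derG m := by
  obtain ⟨u₀, h0⟩ := exists_Aq_mem m hq z h25 t
  rw [← Aq_mul_zero m t u₀ u]
  exact mul_mem h0 (Aq_zero_mem m hq z h28 (u + u₀))

/-! ### The class of `p₁, p₄` -/

theorem hz_conj_Pq (z : Kˣ) (a b : K) :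
    hz m (1, z) * Pq a b * (hz m (1, z))⁻¹ = Pq (chiz m z 33 * a) (chiz m z 24 * b) := by
  unfold Pq
  rw [hz_conj_word]
  rfl

theorem comm_Pq (hq : ∀ x : K, x ^ 2 ^ (2 * m + 1) = x) (z : Kˣ) (a b : K)
    (hX : Pq a b ∈ fixG m) :
    Pq (chiz m z 33 * a + a) (chiz m z 24 * b + b) ∈ derG m := by
  have hc := comm_mem_derG m _ _ (hz_mem_fixG m hq (1, z)) hX
  rw [hz_conj_Pq, Pq_inv, Pq_mul] at hc
  exact hc

theorem Pq_mem_derG [Fintype K] (hq : ∀ x : K, x ^ 2 ^ (2 * m + 1) = x) (z : Kˣ)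
    (h24 : chiz m z 24 ≠ 1) (t : K) : Pq (ph m t) t ∈ derG m := by
  have hne := add_one_ne_zero' _ h24
  obtain ⟨t', ht'⟩ : ∃ t', chiz m z 24 * t' + t' = t :=
    ⟨t / (chiz m z 24 + 1), by field_simp⟩
  have hX : Pq (ph m t') t' ∈ fixG m := by
    rw [Pq_eq]
    exact pair_mem_fixG m hq (33, 24) (by decide) t'
  have h1 := comm_Pq m hq z _ _ hX
  rw [ht'] at h1
  have h2 := Pq_fixed m _ _ (derG_le m h1)
  rw [h2] at h1
  exact h1

/-! ### The negative classes -/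

theorem wAct_neg_gens : wAct chevF4 [0, 3] 33 = 14 ∧ wAct chevF4 [0, 3] 24 = 23 ∧
    wAct chevF4 [1, 2, 1, 2] 27 = 20 ∧ wAct chevF4 [1, 2, 1, 2] 25 = 22 ∧
    wAct chevF4 [1, 2, 1, 2] 28 = 19 ∧ wAct chevF4 [1, 2, 1, 2] 30 = 17 := by decide

theorem wd_n1 : Wd chevF4 [0, 3] := by
  intro i hi
  simp only [List.mem_cons, List.not_mem_nil, or_false] at hi
  rcases hi with rfl | rfl <;> decide

theorem pair_neg_mem_derG [Fintype K] (hq : ∀ x : K, x ^ 2 ^ (2 * m + 1) = x) (z : Kˣ)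
    (h24 : chiz m z 24 ≠ 1) (t : K) :
    wordGL chevF4 hF4 (f4PairWord (2 ^ m) 14 23 t) ∈ derG m := by
  obtain ⟨w1, w2, -⟩ := wAct_neg_gens
  have hn : (wGL chevF4 hF4 [0, 3] : GL chevF4.Idx K) ∈ fixG m :=
    orb_mem_fixG m hq [0, 3] (by decide)
  have h := conj_mem_derG m _ _ hn (Pq_mem_derG m hq z h24 t)
  unfold Pq at h
  rw [wGL_conj_word [0, 3] wd_n1 _ (by
    intro p hp
    simp only [List.mem_cons, List.not_mem_nil, or_false] at hp
    rcases hp with rfl | rfl <;> (show (_ : ℕ) < 48; norm_num))] at h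
  simp only [List.map_cons, List.map_nil] at h
  rw [w1, w2] at h
  rw [pairWord_eq]
  exact h

theorem class_neg_mem_derG [Fintype K] (hq : ∀ x : K, x ^ 2 ^ (2 * m + 1) = x) (z : Kˣ)
    (h25 : chiz m z 25 ≠ 1) (h28 : chiz m z 28 ≠ 1) (t u : K) :
    wordGL chevF4 hF4 (b2ClassWord (2 ^ m) 20 22 19 17 t u) ∈ derG m := by
  obtain ⟨-, -, w1, w2, w3, w4⟩ := wAct_neg_gens
  have hn : (wGL chevF4 hF4 [1, 2, 1, 2] : GL chevF4.Idx K) ∈ fixG m :=
    orb_mem_fixG m hq [1, 2, 1, 2] (by decide)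
  have h := conj_mem_derG m _ _ hn (Aq_mem_derG m hq z h25 h28 t u)
  unfold Aq Wq at h
  rw [wGL_conj_word [1, 2, 1, 2] wd_n2 _ (by
    intro p hp
    simp only [List.mem_cons, List.not_mem_nil, or_false] at hp
    rcases hp with rfl | rfl | rfl | rfl <;> (show (_ : ℕ) < 48; norm_num))] at h
  simp only [List.map_cons, List.map_nil] at h
  rw [w1, w2, w3, w4] at h
  rw [classWord_eq]
  exact h

/-! ### Perfectness -/

theorem twisted_le_derG [Fintype K] (hq : ∀ x : K, x ^ 2 ^ (2 * m + 1) = x) (z : Kˣ)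
    (h24 : chiz m z 24 ≠ 1) (h25 : chiz m z 25 ≠ 1) (h28 : chiz m z 28 ≠ 1) :
    twistedF4 K (2 ^ m) ≤ derG m := by
  unfold twistedF4 ChevalleyDatum.genSubgroup
  rw [Subgroup.closure_le]
  rintro g ⟨w, hw, hg⟩
  rw [SetLike.mem_coe, mem_of_val_eq_wordMat' hg]
  rcases hw with ⟨t, hw | hw⟩ | ⟨t, u, hw | hw⟩
  · rw [hw]
    have h := Pq_mem_derG m hq z h24 t
    rw [Pq_eq] at h
    exact h
  · rw [hw]
    exact pair_neg_mem_derG m hq z h24 t
  · rw [hw]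
    have h := Aq_mem_derG m hq z h25 h28 t u
    rw [Aq_eq] at h
    exact h
  · rw [hw]
    exact class_neg_mem_derG m hq z h25 h28 t u

theorem exists_good_z [Fintype K] (hcard : Fintype.card K = 2 ^ (2 * m + 1)) (hm : 1 ≤ m) :
    ∃ z : Kˣ, chiz m z 24 ≠ 1 ∧ chiz m z 25 ≠ 1 ∧ chiz m z 28 ≠ 1 := by
  obtain ⟨g, hg⟩ := IsCyclic.exists_generator (α := Kˣ)
  have hord : orderOf g = 2 ^ (2 * m + 1) - 1 := by
    rw [orderOf_eq_card_of_forall_mem_zpowers hg, Nat.card_units, Nat.card_eq_fintype_card, hcard]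
  have h2m : 2 ≤ 2 ^ m := by
    calc 2 = 2 ^ 1 := by norm_num
      _ ≤ 2 ^ m := Nat.pow_le_pow_right (by norm_num) hm
  have hbig : 2 ^ m + 1 < 2 ^ (2 * m + 1) - 1 := by
    have : 2 ^ (2 * m + 1) = 2 * (2 ^ m * 2 ^ m) := by ring
    have h3 : 2 ^ m + 2 < 2 * (2 ^ m * 2 ^ m) := by nlinarith [h2m]
    omega
  have hpow : ∀ k, 0 < k → k < 2 ^ (2 * m + 1) - 1 → (g : K) ^ k ≠ 1 := by
    intro k hk0 hk h
    have h1 : g ^ k = 1 := by
      apply Units.ext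
      rw [Units.val_pow_eq_pow_val, h, Units.val_one]
    have h2 := orderOf_dvd_of_pow_eq_one h1
    rw [hord] at h2
    have := Nat.le_of_dvd hk0 h2
    omega
  refine ⟨g, ?_, ?_, ?_⟩
  · rw [chiz24]
    exact hpow 2 (by norm_num) (by omega)
  · rw [chiz25]
    intro h
    have h1 : (g : K) = 1 := by
      rw [inv_eq_one] at h
      exact h
    have := hpow 1 one_pos (by omega)
    rw [pow_one] at this
    exact this h1
  · rw [chiz28, ← mul_inv]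
    intro h
    rw [inv_eq_one, ph_apply, ← pow_succ] at h
    exact hpow (2 ^ m + 1) (by omega) hbig h

/-- the group of fixed points is perfect when `m ≥ 1` -/
theorem commutator_fixG [Fintype K] (hq : ∀ x : K, x ^ 2 ^ (2 * m + 1) = x)
    (hcard : Fintype.card K = 2 ^ (2 * m + 1)) (hm : 1 ≤ m) :
    commutator ↥(fixG (K := K) m) = ⊤ := by
  obtain ⟨z, h24, h25, h28⟩ := exists_good_z m hcard hm
  have hle : fixG (K := K) m ≤ derG m := by
    rw [← twisted_eq_fixG m hcard hq]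
    exact twisted_le_derG m hq z h24 h25 h28
  rw [eq_top_iff]
  intro y _
  have hy := hle y.2
  obtain ⟨y', hy', e⟩ := Subgroup.mem_map.1 hy
  have : y' = y := Subtype.ext e
  rw [← this]
  exact hy'

set_option maxRecDepth 1000000 in
theorem nc_F4 : ∃ r < chevF4.nroots,
    wAct chevF4 ([0, 3] ++ [1, 2, 1, 2]) r ≠ wAct chevF4 ([1, 2, 1, 2] ++ [0, 3]) r := by
  decide +kernel

/-- the twisted diagram is connected -/
theorem hconn_F4 (p : List ℕ → Prop) (h1 : ∃ J ∈ orbsF4, p J) (h2 : ∃ J ∈ orbsF4, ¬ p J) :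
    ∃ J1 ∈ orbsF4, ∃ J2 ∈ orbsF4, p J1 ∧ ¬ p J2 ∧
      ∃ r < chevF4.nroots, wAct chevF4 (J1 ++ J2) r ≠ wAct chevF4 (J2 ++ J1) r := by
  obtain ⟨r, hr, hne⟩ := nc_F4
  have m0 : [0, 3] ∈ orbsF4 := by decide
  have m1 : [1, 2, 1, 2] ∈ orbsF4 := by decide
  obtain ⟨J, hJ, hpJ⟩ := h1
  obtain ⟨J', hJ', hpJ'⟩ := h2
  have c1 : J = [0, 3] ∨ J = [1, 2, 1, 2] := by simpa [orbsF4] using hJ
  have c2 : J' = [0, 3] ∨ J' = [1, 2, 1, 2] := by simpa [orbsF4] using hJ'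
  rcases c1 with rfl | rfl <;> rcases c2 with rfl | rfl
  · exact absurd hpJ hpJ'
  · exact ⟨_, m0, _, m1, hpJ, hpJ', r, hr, hne⟩
  · exact ⟨_, m1, _, m0, hpJ, hpJ', r, hr, hne.symm⟩
  · exact absurd hpJ hpJ'

/-- the group of fixed points is simple when `m ≥ 1` -/
theorem fixG_simple [Fintype K] (hq : ∀ x : K, x ^ 2 ^ (2 * m + 1) = x)
    (hcard : Fintype.card K = 2 ^ (2 * m + 1)) (hm : 1 ≤ m) :
    IsSimpleGroup ↥(fixG (K := K) m) ∧ ¬ IsMulCommutative ↥(fixG (K := K) m) :=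
  simpleX chevF4 hF4 gF4 orbsF4 (fixG m) (hypX_F4 m hq) hconn_F4 [0, 3] (by decide)
    (commutator_fixG m hq hcard hm) (normalCore_eq_bot m hq)

end Cfsg.Agent.Lib.Helper5.F4T
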