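import Mathlib
import Cfsg.Prelude.Def_ChevStructure
import Cfsg.Prelude.Def_LieTwisted
import Cfsg.Agent.Lib.Helper5.F4T.Order
import Cfsg.Agent.Lib.Helper5.F4T.Finite
import Cfsg.Agent.Lib.Helper5.ChevHeight

set_option autoImplicit false

/-!
The `2`-elements of the large Ree groups `²F₄(q)` have order at most `32`.
-/

namespace Cfsg.Agent.Lib.Helper5.F4T

open Cfsg Cfsg.Lie Cfsg.Agent.Lib.Helper5.ChevHeight

theorem odd_part_odd (Q : ℕ) (hQ : 2 ∣ Q) (hQ1 : 1 ≤ Q) :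
    ¬ 2 ∣ (Q - 1) * (Q ^ 3 + 1) * (Q ^ 4 - 1) * (Q ^ 6 + 1) := by
  have h3 : 2 ∣ Q ^ 3 := dvd_pow hQ (by norm_num)
  have h4 : 2 ∣ Q ^ 4 := dvd_pow hQ (by norm_num)
  have h6 : 2 ∣ Q ^ 6 := dvd_pow hQ (by norm_num)
  have h41 : 1 ≤ Q ^ 4 := Nat.one_le_pow _ _ hQ1
  have a1 : ¬ 2 ∣ Q - 1 := by omega
  have a2 : ¬ 2 ∣ Q ^ 3 + 1 := by omega
  have a3 : ¬ 2 ∣ Q ^ 4 - 1 := by omega
  have a4 : ¬ 2 ∣ Q ^ 6 + 1 := by omega
  intro h
  rcases (Nat.Prime.dvd_mul Nat.prime_two).1 h with h | h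
  · rcases (Nat.Prime.dvd_mul Nat.prime_two).1 h with h | h
    · rcases (Nat.Prime.dvd_mul Nat.prime_two).1 h with h | h
      · exact a1 h
      · exact a2 h
    · exact a3 h
  · exact a4 h

theorem two_element_order_le {K : Type*} [Field K] [Fintype K] (m : ℕ)
    (hK : Fintype.card K = 2 ^ (2 * m + 1))
    (x : ↥(twistedF4 K (2 ^ m))) (hx : ∃ j : ℕ, orderOf x = 2 ^ j) : orderOf x ≤ 32 := by
  have := charP_of_card hK
  have hq := pow_card_eq hK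
  have hG := twisted_eq_fixG m hK hq
  obtain ⟨Q, hQdef⟩ : ∃ Q : ℕ, Q = 2 ^ (2 * m + 1) := ⟨_, rfl⟩
  have hQ2 : 2 ∣ Q := by
    rw [hQdef, pow_succ]
    exact dvd_mul_left 2 _
  have hQ1 : 1 ≤ Q := by
    rw [hQdef]
    exact Nat.one_le_two_pow
  -- the order of the group
  have hcardG : Nat.card ↥(twistedF4 K (2 ^ m)) =
      Q ^ 12 * ((Q - 1) * (Q ^ 3 + 1) * (Q ^ 4 - 1) * (Q ^ 6 + 1)) := by
    rw [hG, card_fixG m hq, hK, ← hQdef, order_arith _ hQ1]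
    ring
  -- the unipotent subgroup
  obtain ⟨P, hPdef⟩ : ∃ P : Subgroup ↥(twistedF4 K (2 ^ m)),
      P = (chevF4.posUnipotent K).subgroupOf (twistedF4 K (2 ^ m)) := ⟨_, rfl⟩
  have hcardP : Nat.card P = Q ^ 12 := by
    rw [hPdef, ← Subgroup.inf_subgroupOf_right,
      Nat.card_congr (Subgroup.subgroupOfEquivOfLe inf_le_right).toEquiv, hG, card_pos_fix m hq,
      hK, hQdef]
  have hP1 : IsPGroup 2 P := by
    apply IsPGroup.of_card (n := (2 * m + 1) * 12)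
    rw [hcardP, hQdef, pow_mul]
  have hP2 : ¬ 2 ∣ P.index := by
    have h1 := Subgroup.card_mul_index P
    rw [hcardP, hcardG] at h1
    have h2 : 0 < Q ^ 12 := Nat.pow_pos (by omega)
    rw [Nat.eq_of_mul_eq_mul_left h2 h1]
    exact odd_part_odd Q hQ2 hQ1
  let P0 : Sylow 2 ↥(twistedF4 K (2 ^ m)) := IsPGroup.toSylow (p := 2) hP1 hP2
  have hP0 : (P0 : Subgroup ↥(twistedF4 K (2 ^ m))) = P := IsPGroup.toSylow_coe (p := 2) hP1 hP2
  -- `x` lies in a Sylow `2`-subgroup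
  obtain ⟨j, hj⟩ := hx
  have hZ : IsPGroup 2 (Subgroup.zpowers x) := by
    apply IsPGroup.of_card (n := j)
    rw [Nat.card_zpowers, hj]
  obtain ⟨S, hS⟩ := hZ.exists_le_sylow
  obtain ⟨g, hg⟩ := MulAction.exists_smul_eq ↥(twistedF4 K (2 ^ m)) P0 S
  have hxS : x ∈ (S : Subgroup ↥(twistedF4 K (2 ^ m))) := hS (Subgroup.mem_zpowers x)
  have hx' : x ∈ ((g • P0 : Sylow 2 ↥(twistedF4 K (2 ^ m))) :
      Subgroup ↥(twistedF4 K (2 ^ m))) := by
    rw [hg]; exact hxS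
  rw [Sylow.coe_subgroup_smul, Subgroup.mem_pointwise_smul_iff_inv_smul_mem] at hx'
  have hx2 : g⁻¹ * x * g ∈ P := by
    have : (MulAut.conj g)⁻¹ • x = g⁻¹ * x * g := by
      rw [← map_inv, MulAut.smul_def, MulAut.conj_apply, inv_inv]
    rw [this, hP0] at hx'
    exact hx'
  rw [hPdef, Subgroup.mem_subgroupOf] at hx2
  have h32 : (g⁻¹ * x * g) ^ 32 = 1 := by
    apply Subtype.ext
    rw [Subgroup.coe_pow]
    exact pow_thirty_two_eq_one _ hx2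
  have hx32 : x ^ 32 = 1 := by
    have e : x = g * (g⁻¹ * x * g) * g⁻¹ := by group
    rw [e, conj_pow, h32]
    group
  exact Nat.le_of_dvd (by norm_num) (orderOf_dvd_of_pow_eq_one hx32)

end Cfsg.Agent.Lib.Helper5.F4T
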